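/-
A TI subgroup with centralisers of odd order whose normaliser is split by an involution, and the
count of involutions by cosets (after Bender).
-/
import Mathlib
import Cfsg.Prelude.Def_Local

set_option autoImplicit false
set_option linter.unusedSectionVars false

namespace CfsgLib.TIInvCount

open Subgroup
open scoped Pointwise

variable {G : Type*} [Group G]

/-- The normaliser. -/
abbrev NN (M : Subgroup G) : Subgroup G := Subgroup.normalizer (M : Set G)

/-- The complement cut out by the involution. -/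
abbrev HH (M : Subgroup G) (z : G) : Subgroup G := NN M ⊓ centralizer ({z} : Set G)

/-- The hypotheses. -/
structure Hyp (M : Subgroup G) (z : G) : Prop where
  ne : M ≠ ⊥
  ti : ∀ g x : G, x ∈ M → x ≠ 1 → g * x * g⁻¹ ∈ M → g ∈ NN M
  hz : orderOf z = 2
  hzN : z ∈ NN M
  fac : M ⊔ HH M z = NN M
  odd : ∀ x ∈ M, x ≠ 1 → Odd (Nat.card (centralizer ({x} : Set G)))

theorem mul_self {t : G} (ht : orderOf t = 2) : t * t = 1 := by
  rw [← sq, ← ht, pow_orderOf_eq_one]

theorem inv_self {t : G} (ht : orderOf t = 2) : t⁻¹ = t :=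
  inv_eq_of_mul_eq_one_right (mul_self ht)

theorem ne_one {t : G} (ht : orderOf t = 2) : t ≠ 1 := fun e => by
  rw [e, orderOf_one] at ht; omega

theorem two_of {t : G} (h : t * t = 1) (h1 : t ≠ 1) : orderOf t = 2 :=
  orderOf_eq_prime (by rw [sq, h]) h1

theorem orderOf_conj' {t : G} (g : G) (ht : orderOf t = 2) : orderOf (g * t * g⁻¹) = 2 :=
  two_of (by rw [conj_mul, mul_self ht, mul_one, mul_inv_cancel])
    (fun e => ne_one ht (by simpa [mul_assoc] using congrArg (fun u => g⁻¹ * u * g) e))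

variable {M : Subgroup G} {z : G}

theorem conj_mem {n x : G} (hn : n ∈ NN M) (hx : x ∈ M) : n * x * n⁻¹ ∈ M :=
  (mem_normalizer_iff.mp hn x).mp hx

theorem M_le : M ≤ NN M := le_normalizer

theorem mem_HH {x : G} : x ∈ HH M z ↔ x ∈ NN M ∧ x * z = z * x :=
  ⟨fun h => ⟨h.1, mem_centralizer_singleton_iff.mp h.2⟩,
    fun h => ⟨h.1, mem_centralizer_singleton_iff.mpr h.2⟩⟩

theorem conj_eq_of_comm {t x : G} (ht : t * t = 1) (e : t * x = x * t) : t * x * t = x := by
  rw [e, mul_assoc, ht, mul_one]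

theorem comm_of_conj_eq {t x : G} (ht : t * t = 1) (e : t * x * t = x) : t * x = x * t := by
  calc t * x = t * x * (t * t) := by rw [ht, mul_one]
    _ = (t * x * t) * t := by group
    _ = x * t := by rw [e]

namespace Hyp

variable [Finite G] (h : Hyp M z)
include h

theorem not_commute {t x : G} (ht : orderOf t = 2) (hx : x ∈ M) (hx1 : x ≠ 1) : t * x ≠ x * t := by
  intro e
  have h1 : orderOf (⟨t, mem_centralizer_singleton_iff.mpr e⟩ : centralizer ({x} : Set G)) = 2 := by
    rw [← Subgroup.orderOf_coe]; exact ht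
  have h2 := orderOf_dvd_natCard (⟨t, mem_centralizer_singleton_iff.mpr e⟩ : centralizer ({x} : Set G))
  rw [h1] at h2
  exact (h.odd x hx hx1).not_two_dvd_nat h2

theorem no_invol {x : G} (hx : x ∈ M) : orderOf x ≠ 2 := fun e =>
  h.not_commute e hx (ne_one e) rfl

theorem odd_M : Odd (Nat.card M) := by
  rw [← Nat.not_even_iff_odd, even_iff_two_dvd]
  intro hd
  obtain ⟨x, hx⟩ := exists_prime_orderOf_dvd_card' (G := M) 2 hd
  exact h.no_invol x.2 ((Subgroup.orderOf_coe x).trans hx)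

theorem two_lt : 2 < Nat.card M := by
  have h1 := h.odd_M
  haveI : Nontrivial M := (Subgroup.nontrivial_iff_ne_bot M).mpr h.ne
  have h2 : 1 < Nat.card M := Finite.one_lt_card
  obtain ⟨k, hk⟩ := h1
  omega

theorem sqrt {x : G} (hx : x ∈ M) : ∃ y ∈ M, y * y = x := by
  obtain ⟨k, hk⟩ := h.odd_M
  refine ⟨x ^ (k + 1), pow_mem hx _, ?_⟩
  have e : x ^ (2 * k + 1) = 1 := by
    rw [← hk]; exact orderOf_dvd_iff_pow_eq_one.mp (Subgroup.orderOf_dvd_natCard _ hx)
  rw [← pow_add, show k + 1 + (k + 1) = 2 * k + 1 + 1 by ring, pow_succ, e, one_mul]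

theorem inverts {t : G} (ht : orderOf t = 2) (htN : t ∈ NN M) {x : G} (hx : x ∈ M) :
    t * x * t = x⁻¹ := by
  let φ : M →* M :=
    { toFun := fun y => ⟨t * y * t⁻¹, conj_mem htN y.2⟩
      map_one' := Subtype.ext (by simp)
      map_mul' := fun a b => Subtype.ext (by simp [mul_assoc]) }
  have hfpf : MonoidHom.FixedPointFree φ := fun y hy => by
    by_contra hy1
    refine h.not_commute ht y.2 (fun e => hy1 (Subtype.ext e)) ?_
    exact mul_inv_eq_iff_eq_mul.mp (congrArg Subtype.val hy)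
  have hinvo : Function.Involutive φ := fun y => Subtype.ext (by
    show t * (t * y * t⁻¹) * t⁻¹ = (y : G)
    rw [inv_self ht, show t * (t * (y : G) * t) * t = (t * t) * y * (t * t) by group, mul_self ht]
    simp)
  have := congrArg Subtype.val (congrFun (hfpf.coe_eq_inv_of_involutive hinvo) ⟨x, hx⟩)
  simpa [φ, inv_self ht] using this

theorem z_conj {x : G} (hx : x ∈ M) : z * x * z = x⁻¹ := h.inverts h.hz h.hzN hx

theorem comm {a b : G} (ha : a ∈ M) (hb : b ∈ M) : a * b = b * a := by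
  have e := h.z_conj (mul_mem ha hb)
  rw [show z * (a * b) * z = (z * a * z) * (z * b * z) by
    simp only [mul_assoc]; rw [← mul_assoc z z, mul_self h.hz, one_mul], h.z_conj ha, h.z_conj hb,
    mul_inv_rev] at e
  calc a * b = (b⁻¹ * a⁻¹)⁻¹ := by group
    _ = (a⁻¹ * b⁻¹)⁻¹ := by rw [e]
    _ = b * a := by group

theorem z_mem_HH : z ∈ HH M z := mem_HH.mpr ⟨h.hzN, rfl⟩

theorem eq_one_of_comm {x : G} (hx : x ∈ M) (e : z * x = x * z) : x = 1 := by
  by_contra hx1
  exact h.not_commute h.hz hx hx1 e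

theorem decomp {n : G} (hn : n ∈ NN M) : ∃ x ∈ M, ∃ η ∈ HH M z, x * η = n := by
  have e : ((M ⊔ HH M z : Subgroup G) : Set G) = (M : Set G) * (HH M z : Set G) :=
    Subgroup.coe_mul_of_right_le_normalizer_left M (HH M z) inf_le_left
  have h1 : n ∈ ((M ⊔ HH M z : Subgroup G) : Set G) := by rw [h.fac]; exact hn
  rw [e] at h1
  exact Set.mem_mul.mp h1

theorem mem_zM {t : G} (ht : orderOf t = 2) (htN : t ∈ NN M) : z * t ∈ M := by
  obtain ⟨x, hx, η, hη, e⟩ := h.decomp htN
  have hz2 := mul_self h.hz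
  obtain ⟨-, hηz⟩ := mem_HH.mp hη
  set k := z * η with hk
  have hzt : z * t = x⁻¹ * k := by
    rw [← e, hk, ← h.z_conj hx]
    simp only [mul_assoc]
    rw [← mul_assoc z z η, hz2, one_mul]
  -- `k` centralises `M`
  have hkM : ∀ y ∈ M, k * y = y * k := by
    intro y hy
    have h1 : t * y * t = y⁻¹ := h.inverts ht htN hy
    have h2 : (z * t) * y * (z * t)⁻¹ = y := by
      rw [mul_inv_rev, inv_self h.hz, inv_self ht]
      calc z * t * y * (t * z) = z * (t * y * t) * z := by group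
        _ = y := by rw [h1, h.z_conj (inv_mem hy), inv_inv]
    rw [hzt, mul_inv_eq_iff_eq_mul] at h2
    calc k * y = x * (x⁻¹ * k * y) := by group
      _ = x * y * (x⁻¹ * k) := by rw [h2, mul_assoc]
      _ = y * k := by rw [h.comm hx hy]; group
  have hkz : k * z = z * k := by rw [hk, mul_assoc, hηz]
  have htk : t = x * (z * k) := by
    rw [← e, hk, ← mul_assoc z z η, hz2, one_mul]
  have hk2 : k * k = 1 := by
    have h2 := mul_self ht
    rw [htk] at h2
    calc k * k = x * ((z * x * z) * k) * k := by rw [h.z_conj hx]; group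
      _ = x * (z * x * (z * k)) * k := by group
      _ = x * z * x * (k * z) * k := by rw [hkz]; group
      _ = x * z * (x * k) * z * k := by group
      _ = x * z * (k * x) * z * k := by rw [hkM x hx]
      _ = x * (z * k) * (x * (z * k)) := by group
      _ = 1 := h2
  have hk1 : k = 1 := by
    by_contra hk1
    obtain ⟨y, hy, hy1⟩ := (Subgroup.ne_bot_iff_exists_ne_one.mp h.ne).elim fun y hy1 =>
      (⟨(y : G), y.2, fun e' => hy1 (Subtype.ext e')⟩ : ∃ y ∈ M, y ≠ 1)
    exact h.not_commute (two_of hk2 hk1) hy hy1 (hkM y hy)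
  rw [hzt, hk1, mul_one]
  exact inv_mem hx

theorem exists_conj_z {t : G} (ht : orderOf t = 2) (htN : t ∈ NN M) : ∃ x ∈ M, x * z * x⁻¹ = t := by
  obtain ⟨y, hy, e⟩ := h.sqrt (h.mem_zM ht htN)
  have hz2 := mul_self h.hz
  refine ⟨y⁻¹, inv_mem hy, ?_⟩
  calc y⁻¹ * z * y⁻¹⁻¹ = (z * y * z) * z * y := by rw [h.z_conj hy, inv_inv]
    _ = z * y * (z * z) * y := by group
    _ = z * (y * y) := by rw [hz2]; group
    _ = t := by rw [e, ← mul_assoc, hz2, one_mul]

theorem unique_invol {t : G} (ht : orderOf t = 2) (htH : t ∈ HH M z) : t = z := by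
  obtain ⟨htN, e⟩ := mem_HH.mp htH
  have h1 : z * t = 1 := h.eq_one_of_comm (h.mem_zM ht htN) (by rw [mul_assoc, e])
  calc t = z * (z * t) := by rw [← mul_assoc, mul_self h.hz, one_mul]
    _ = z := by rw [h1, mul_one]

theorem disjoint_M_HH {x : G} (hx : x ∈ M) (hx' : x ∈ HH M z) : x = 1 :=
  h.eq_one_of_comm hx (mem_HH.mp hx').2.symm

theorem card_NN : Nat.card (NN M) = Nat.card M * Nat.card (HH M z) := by
  let f : M × HH M z → NN M := fun p =>
    ⟨(p.1 : G) * p.2, mul_mem (M_le p.1.2) (mem_HH.mp p.2.2).1⟩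
  have hf : Function.Bijective f := by
    constructor
    · rintro ⟨a, b⟩ ⟨a', b'⟩ e
      have e' : (a : G) * b = a' * b' := congrArg Subtype.val e
      have h1 : (a' : G)⁻¹ * a = (b' : G) * (b : G)⁻¹ := by
        calc (a' : G)⁻¹ * a = (a' : G)⁻¹ * ((a : G) * b) * (b : G)⁻¹ := by group
          _ = (b' : G) * (b : G)⁻¹ := by rw [e']; group
      have h2 : (a' : G)⁻¹ * a = 1 := h.disjoint_M_HH (mul_mem (inv_mem a'.2) a.2)
        (h1 ▸ mul_mem b'.2 (inv_mem b.2))
      have h3 : a' = a := Subtype.ext (inv_mul_eq_one.mp h2)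
      subst h3
      rw [Subtype.ext (mul_left_cancel e')]
    · rintro ⟨n, hn⟩
      obtain ⟨x, hx, η, hη, e⟩ := h.decomp hn
      exact ⟨(⟨x, hx⟩, ⟨η, hη⟩), Subtype.ext e⟩
  rw [← Nat.card_congr (Equiv.ofBijective f hf), Nat.card_prod]

theorem outside_unique {t t' : G} (ht : orderOf t = 2) (htN : t ∉ NN M) (ht' : orderOf t' = 2)
    (e : t⁻¹ * t' ∈ M) : t = t' := by
  by_contra hne
  refine htN (h.ti t _ e (fun e' => hne (inv_mul_eq_one.mp e')) ?_)
  rw [inv_self ht]
  rw [inv_self ht] at e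
  rw [show t * (t * t') * t = (t * t) * (t' * t) by group, mul_self ht, one_mul]
  have := inv_mem e
  rwa [mul_inv_rev, inv_self ht, inv_self ht'] at this

theorem card_involutions_in :
    {t : G | orderOf t = 2 ∧ t ∈ NN M}.ncard = Nat.card M := by
  have e : {t : G | orderOf t = 2 ∧ t ∈ NN M} = (fun x => z * x) '' (M : Set G) := by
    ext t
    constructor
    · rintro ⟨ht, htN⟩
      exact ⟨z * t, h.mem_zM ht htN, by simp only [← mul_assoc, mul_self h.hz, one_mul]⟩
    · rintro ⟨x, hx, rfl⟩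
      refine ⟨two_of ?_ fun e => ?_, mul_mem h.hzN (M_le hx)⟩
      · calc z * x * (z * x) = (z * x * z) * x := by group
          _ = 1 := by rw [h.z_conj hx, inv_mul_cancel]
      · exact h.no_invol (x := z) (by
          rw [show z = x⁻¹ from eq_inv_of_mul_eq_one_left e]; exact inv_mem hx) h.hz
  rw [e, Set.ncard_image_of_injective _ (mul_right_injective z)]
  rfl

/-- Either there are few involutions, or each coset of `M` outside the normaliser contains one. -/
theorem count : Nat.card {g : G // orderOf g = 2} ≤ M.index ∨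
    ((∀ g ∉ NN M, ∃ t : G, orderOf t = 2 ∧ t⁻¹ * g ∈ M) ∧ Nat.card (HH M z) < Nat.card M) := by
  classical
  set m := Nat.card M with hm
  set Io : Set G := {t | orderOf t = 2 ∧ t ∉ NN M} with hIo
  set W : Set G := Set.image2 (· * ·) Io (M : Set G) with hW
  set E : Set G := ((NN M : Set G) ∪ W)ᶜ with hE
  have hmW : W.ncard = Io.ncard * m := by
    rw [hW, ← Set.image_prod, Set.InjOn.ncard_image, Set.ncard_prod]
    · rfl
    · rintro ⟨t, x⟩ ⟨⟨ht, htN⟩, hx⟩ ⟨t', x'⟩ ⟨⟨ht', ht'N⟩, hx'⟩ e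
      have hmem : t⁻¹ * t' ∈ M := by
        have : t⁻¹ * t' = x * x'⁻¹ := by
          rw [inv_mul_eq_iff_eq_mul, ← mul_assoc, show t * x = t' * x' from e, mul_inv_cancel_right]
        rw [this]
        exact mul_mem hx (inv_mem hx')
      have htt := h.outside_unique ht htN ht' hmem
      subst htt
      exact Prod.ext rfl (mul_left_cancel e)
  have hWN : Disjoint (NN M : Set G) W := by
    rw [Set.disjoint_left]
    rintro _ hn ⟨t, ⟨-, htN⟩, x, hx, rfl⟩
    exact htN ((mul_mem_cancel_right (M_le hx)).mp hn)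
  have hG : Nat.card G = Nat.card M * Nat.card (HH M z) + Io.ncard * m + E.ncard := by
    rw [← Set.ncard_add_ncard_compl ((NN M : Set G) ∪ W), Set.ncard_union_eq hWN, hmW, ← h.card_NN]
    rfl
  have hI : Nat.card {g : G // orderOf g = 2} = m + Io.ncard := by
    rw [show Nat.card {g : G // orderOf g = 2} = {t : G | orderOf t = 2}.ncard from rfl,
      hm, ← h.card_involutions_in, hIo, ← Set.ncard_union_eq]
    · congr 1
      ext t
      simp only [Set.mem_setOf_eq, Set.mem_union]
      tauto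
    · rw [Set.disjoint_left]
      rintro t ⟨-, h1⟩ ⟨-, h2⟩
      exact h2 h1
  have hi : Nat.card G = M.index * m := (Subgroup.index_mul_card M).symm
  have hm0 : 0 < m := Nat.card_pos
  rcases E.eq_empty_or_nonempty with hE0 | ⟨g, hg⟩
  · rw [hE0, Set.ncard_empty, Nat.add_zero, hi] at hG
    have h1 : M.index = Nat.card (HH M z) + Io.ncard :=
      Nat.eq_of_mul_eq_mul_right hm0 (by rw [hG, hm]; ring)
    by_cases hlt : Nat.card (HH M z) < m
    · refine Or.inr ⟨fun g hgN => ?_, hlt⟩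
      have : g ∈ (NN M : Set G) ∪ W := by
        by_contra hc
        exact (Set.eq_empty_iff_forall_notMem.mp hE0 g) hc
      rcases this with h2 | ⟨t, ⟨ht, -⟩, x, hx, rfl⟩
      · exact absurd h2 hgN
      · exact ⟨t, ht, by simpa using hx⟩
    · exact Or.inl (by omega)
  · left
    have hgN : g ∉ NN M := fun e => hg (Or.inl e)
    have hsub : Set.image2 (fun a b => a * g * b) (M : Set G) (M : Set G) ⊆ E := by
      rintro _ ⟨a, ha, b, hb, rfl⟩ (hc | ⟨t, ⟨ht, htN⟩, x, hx, e⟩)
      · exact hgN ((mul_mem_cancel_left (M_le ha)).mp ((mul_mem_cancel_right (M_le hb)).mp hc))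
      · refine hg (Or.inr ⟨a⁻¹ * t * a⁻¹⁻¹, ⟨orderOf_conj' _ ht, fun hc => htN ?_⟩, a⁻¹ * x * b⁻¹,
          mul_mem (mul_mem (inv_mem ha) hx) (inv_mem hb), ?_⟩)
        · rw [inv_inv] at hc
          exact (mul_mem_cancel_left (M_le (inv_mem ha))).mp ((mul_mem_cancel_right (M_le ha)).mp hc)
        · simp only at e ⊢
          calc a⁻¹ * t * a⁻¹⁻¹ * (a⁻¹ * x * b⁻¹) = a⁻¹ * (t * x) * b⁻¹ := by group
            _ = g := by rw [e]; group
    have hcard : (Set.image2 (fun a b => a * g * b) (M : Set G) (M : Set G)).ncard = m * m := by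
      rw [← Set.image_prod, Set.InjOn.ncard_image, Set.ncard_prod]
      · rfl
      · rintro ⟨a, b⟩ ⟨ha, hb⟩ ⟨a', b'⟩ ⟨ha', hb'⟩ e
        simp only at e
        have e' : g * (b * b'⁻¹) * g⁻¹ = a⁻¹ * a' := by
          calc g * (b * b'⁻¹) * g⁻¹ = a⁻¹ * (a * g * b) * b'⁻¹ * g⁻¹ := by group
            _ = a⁻¹ * a' := by rw [e]; group
        have h1 : b * b'⁻¹ = 1 := by
          by_contra hb1
          exact hgN (h.ti g _ (mul_mem hb (inv_mem hb')) hb1 (e' ▸ mul_mem (inv_mem ha) ha'))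
        have h2 := mul_inv_eq_one.mp h1
        rw [h1, mul_one, mul_inv_cancel] at e'
        rw [inv_mul_eq_one.mp e'.symm, h2]
    have hle : m * m ≤ E.ncard := hcard ▸ Set.ncard_le_ncard hsub (Set.toFinite _)
    have h1 : (Io.ncard + m) * m ≤ M.index * m := by
      rw [← hi, hG, add_mul]; omega
    have h2 := Nat.le_of_mul_le_mul_right h1 hm0
    omega

end Hyp

end CfsgLib.TIInvCount
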