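/-
The structure forced when every coset outside the normaliser contains an involution: two-point
stabilisers are abelian complements, and the centraliser of the involution controls everything.
-/
import Cfsg.Agent.Lib.TIInvCount.Setup

set_option autoImplicit false
set_option linter.unusedSectionVars false

namespace CfsgLib.TIInvCount

open Subgroup

variable {G : Type*} [Group G]

/-- Every coset outside the normaliser contains an involution. -/
structure Full (M : Subgroup G) (z : G) : Prop extends Hyp M z where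
  inv : ∀ g ∉ NN M, ∃ t : G, orderOf t = 2 ∧ t⁻¹ * g ∈ M

/-- The part of the centraliser of the involution outside the normaliser. -/
def Cout (M : Subgroup G) (z : G) : Set G := {c | c * z = z * c ∧ c ∉ NN M}

variable {M : Subgroup G} {z : G}

namespace Full

variable [Finite G] (h : Full M z)
include h

theorem exists_d {t : G} (ht : orderOf t = 2) (htN : t ∉ NN M) {η : G} (hη : η ∈ HH M z) :
    ∃ d ∈ NN M, η⁻¹ * d ∈ M ∧ t * d * t = d⁻¹ := by
  obtain ⟨u, hu, huM⟩ := h.inv (t * η) (fun e => htN ((mul_mem_cancel_right (mem_HH.mp hη).1).mp e))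
  have e1 : η⁻¹ * (t * u) ∈ M := by
    have := inv_mem huM
    rwa [mul_inv_rev, mul_inv_rev, inv_inv, inv_self ht, mul_assoc] at this
  refine ⟨t * u, ?_, e1, ?_⟩
  · have := mul_mem (mem_HH.mp hη).1 (M_le e1)
    rwa [mul_inv_cancel_left] at this
  · rw [mul_inv_rev, inv_self hu, inv_self ht, show t * (t * u) * t = t * t * (u * t) by group, mul_self ht,
      one_mul]

theorem mem_conj_of_inverted {t d : G} (hd : d ∈ NN M) (e : t * d * t = d⁻¹) : t * d * t ∈ NN M :=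
  e ▸ inv_mem hd

/-- An involution fixed by the two point stabiliser. -/
theorem exists_z1 {t : G} (ht : orderOf t = 2) (htN : t ∉ NN M) :
    ∃ d ∈ NN M, orderOf d = 2 ∧ t * d = d * t := by
  obtain ⟨d, hdN, hdM, e⟩ := h.exists_d ht htN h.z_mem_HH
  have hd2 : d * d = 1 := by
    obtain ⟨x, hx, rfl⟩ : ∃ x ∈ M, z * x = d := ⟨z⁻¹ * d, hdM, mul_inv_cancel_left z d⟩
    rw [show z * x * (z * x) = (z * x * z) * x by group, h.z_conj hx, inv_mul_cancel]
  have hd1 : d ≠ 1 := fun e1 => h.no_invol (x := z) (by simpa [e1] using hdM) h.hz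
  refine ⟨d, hdN, two_of hd2 hd1, comm_of_conj_eq (mul_self ht) ?_⟩
  rw [e, inv_eq_of_mul_eq_one_right hd2]

theorem trivial_inter {t a : G} (ht : orderOf t = 2) (htN : t ∉ NN M) (ha : a ∈ M)
    (hta : t * a * t ∈ NN M) : a = 1 := by
  obtain ⟨d, hdN, hd, htd⟩ := h.exists_z1 ht htN
  have hd2 := mul_self hd
  set a' := t * a * t with ha'
  have e1 : d * a' * d = a'⁻¹ := by
    rw [ha', mul_inv_rev, mul_inv_rev, inv_self ht]
    calc d * (t * a * t) * d = (d * t) * a * (t * d) := by group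
      _ = (t * d) * a * (d * t) := congrArg₂ (fun u v => u * a * v) htd.symm htd
      _ = t * (d * a * d) * t := by group
      _ = t * (a⁻¹ * t) := by rw [h.inverts hd hdN ha, mul_assoc]
  by_cases hne : d * a' = 1
  · exfalso
    have ha'd : a' = d := by rw [← inv_self hd, eq_inv_of_mul_eq_one_right hne]
    have : a = d := by
      rw [← conj_eq_of_comm (mul_self ht) htd, ← ha'd, ha',
        show t * (t * a * t) * t = (t * t) * a * (t * t) by group, mul_self ht, one_mul, mul_one]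
    exact h.no_invol ha (this ▸ hd)
  have ho : orderOf (d * a') = 2 := two_of (by
    rw [show d * a' * (d * a') = d * a' * d * a' by group, e1, inv_mul_cancel]) hne
  have h1 := h.mem_zM ho (mul_mem hdN hta)
  have h2 := h.mem_zM hd hdN
  have h3 : a' ∈ M := by
    have := mul_mem (inv_mem h2) h1
    rwa [show (z * d)⁻¹ * (z * (d * a')) = a' by group] at this
  by_contra ha1
  exact htN (h.ti t a ha ha1 (by rw [inv_self ht]; exact h3))

theorem inverted {t d : G} (ht : orderOf t = 2) (htN : t ∉ NN M) (hd : d ∈ NN M)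
    (hd' : t * d * t ∈ NN M) : t * d * t = d⁻¹ := by
  obtain ⟨x, hx, η, hη, e⟩ := h.decomp hd
  obtain ⟨d₀, hd₀N, hd₀M, e₀⟩ := h.exists_d ht htN hη
  have hmem : d₀⁻¹ * d ∈ M := by
    rw [← e, show d₀⁻¹ * (x * η) = (η⁻¹ * d₀)⁻¹ * (η⁻¹ * x * η⁻¹⁻¹) by group]
    exact mul_mem (inv_mem hd₀M) (conj_mem (inv_mem (mem_HH.mp hη).1) hx)
  have h1 : d₀⁻¹ * d = 1 := h.trivial_inter ht htN hmem (by
    rw [show t * (d₀⁻¹ * d) * t = (t * d₀⁻¹ * t⁻¹) * (t * d * t) by group, inv_self ht,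
      show t * d₀⁻¹ * t = (t⁻¹ * d₀ * t⁻¹)⁻¹ by group, inv_self ht]
    exact mul_mem (inv_mem (h.mem_conj_of_inverted hd₀N e₀)) hd')
  rw [← inv_mul_eq_one.mp h1]
  exact e₀

theorem commute_two_point {t d d' : G} (ht : orderOf t = 2) (htN : t ∉ NN M) (hd : d ∈ NN M)
    (hdt : t * d * t ∈ NN M) (hd' : d' ∈ NN M) (hdt' : t * d' * t ∈ NN M) : d * d' = d' * d := by
  have e : t * (d * d') * t = (t * d * t) * (t * d' * t) := by
    simp only [mul_assoc]; rw [← mul_assoc t t, mul_self ht, one_mul]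
  have h1 := h.inverted ht htN (mul_mem hd hd') (e ▸ mul_mem hdt hdt')
  rw [e, h.inverted ht htN hd hdt, h.inverted ht htN hd' hdt', mul_inv_rev] at h1
  calc d * d' = (d'⁻¹ * d⁻¹)⁻¹ := by group
    _ = (d⁻¹ * d'⁻¹)⁻¹ := by rw [h1]
    _ = d' * d := by group

theorem exists_conj {t : G} (ht : orderOf t = 2) (htN : t ∉ NN M) :
    ∃ x ∈ M, ∃ c ∈ Cout M z, x * c * x⁻¹ = t := by
  obtain ⟨d, hdN, hd, htd⟩ := h.exists_z1 ht htN
  obtain ⟨x, hx, e⟩ := h.exists_conj_z hd hdN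
  refine ⟨x, hx, x⁻¹ * t * x, ⟨?_, fun hc => htN ?_⟩, by group⟩
  · rw [show z = x⁻¹ * d * x by rw [← e]; group]
    calc x⁻¹ * t * x * (x⁻¹ * d * x) = x⁻¹ * (t * d) * x := by group
      _ = x⁻¹ * (d * t) * x := by rw [htd]
      _ = x⁻¹ * d * x * (x⁻¹ * t * x) := by group
  · have := mul_mem (mul_mem (M_le hx) hc) (inv_mem (M_le hx))
    rwa [show x * (x⁻¹ * t * x) * x⁻¹ = t by group] at this

theorem cout_invol {c : G} (hc : c ∈ Cout M z) : orderOf c = 2 := by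
  obtain ⟨hcz, hcN⟩ := hc
  obtain ⟨t, ht, htM⟩ := h.inv c hcN
  have htN : t ∉ NN M := fun e => hcN (by
    have := mul_mem e (M_le htM)
    rwa [mul_inv_cancel_left] at this)
  set x := t⁻¹ * c with hx
  have e1 : t * z * t = x * z * x⁻¹ := by
    calc t * z * t = t⁻¹ * (z * c) * c⁻¹ * t := by rw [inv_self ht]; group
      _ = t⁻¹ * (c * z) * c⁻¹ * t := by rw [hcz]
      _ = x * z * x⁻¹ := by rw [hx]; group
  have e2 := h.inverted ht htN h.hzN (e1 ▸ mul_mem (mul_mem (M_le htM) h.hzN) (inv_mem (M_le htM)))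
  rw [inv_self h.hz, e1] at e2
  have h1 : x = 1 := h.eq_one_of_comm htM (mul_inv_eq_iff_eq_mul.mp e2).symm
  rw [hx, inv_mul_eq_one] at h1
  exact h1 ▸ ht

theorem cout_mul_HH {c η : G} (hc : c ∈ Cout M z) (hη : η ∈ HH M z) : c * η ∈ Cout M z := by
  obtain ⟨hηN, hηz⟩ := mem_HH.mp hη
  exact ⟨by rw [mul_assoc, hηz, ← mul_assoc, hc.1, mul_assoc],
    fun e => hc.2 ((mul_mem_cancel_right hηN).mp e)⟩

theorem cout_inverts {c η : G} (hc : c ∈ Cout M z) (hη : η ∈ HH M z) : c * η * c = η⁻¹ :=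
  eq_inv_of_mul_eq_one_left (by
    rw [show c * η * c * η = c * η * (c * η) by group]
    exact mul_self (h.cout_invol (h.cout_mul_HH hc hη)))

theorem mem_HH_of_cout {c d : G} (hc : c ∈ Cout M z) (hd : d ∈ NN M) (hd' : c * d * c ∈ NN M) :
    d ∈ HH M z := by
  have hc2 := h.cout_invol hc
  refine mem_HH.mpr ⟨hd, h.commute_two_point hc2 hc.2 hd hd' h.hzN ?_⟩
  rw [conj_eq_of_comm (mul_self hc2) hc.1]
  exact h.hzN

theorem exists_cout (hne : NN M ≠ ⊤) : ∃ c, c ∈ Cout M z := by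
  obtain ⟨g, hg⟩ : ∃ g, g ∉ NN M := by
    by_contra hcon
    push Not at hcon
    exact hne ((eq_top_iff' _).mpr hcon)
  obtain ⟨t, ht, htM⟩ := h.inv g hg
  obtain ⟨-, -, c, hc, -⟩ := h.exists_conj ht (fun e => hg (by
    have := mul_mem e (M_le htM)
    rwa [mul_inv_cancel_left] at this))
  exact ⟨c, hc⟩

theorem decomp_out {g : G} (hg : g ∉ NN M) : ∃ a ∈ M, ∃ c ∈ Cout M z, ∃ b ∈ M, a * c * b = g := by
  obtain ⟨t, ht, htM⟩ := h.inv g hg
  obtain ⟨x, hx, c, hc, e⟩ := h.exists_conj ht (fun e => hg (by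
    have := mul_mem e (M_le htM)
    rwa [mul_inv_cancel_left] at this))
  refine ⟨x, hx, c, hc, x⁻¹ * (t⁻¹ * g), mul_mem (inv_mem hx) htM, ?_⟩
  rw [show x * c * (x⁻¹ * (t⁻¹ * g)) = (x * c * x⁻¹) * t⁻¹ * g by group, e, mul_inv_cancel, one_mul]

theorem conj_cout_out {x c : G} (hx : x ∈ M) (hc : c ∈ Cout M z) :
    orderOf (x * c * x⁻¹) = 2 ∧ x * c * x⁻¹ ∉ NN M :=
  ⟨orderOf_conj' x (h.cout_invol hc), fun e =>
    hc.2 ((mul_mem_cancel_left (M_le hx)).mp ((mul_mem_cancel_right (inv_mem (M_le hx))).mp e))⟩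

theorem conj_cout_injOn {x c x' c' : G} (hx : x ∈ M) (hc : c ∈ Cout M z) (hx' : x' ∈ M)
    (hc' : c' ∈ Cout M z) (e : x * c * x⁻¹ = x' * c' * x'⁻¹) : x = x' ∧ c = c' := by
  obtain ⟨ht, htN⟩ := h.conj_cout_out hx hc
  have hd : ∀ y ∈ M, ∀ w ∈ Cout M z, y * w * y⁻¹ = x * c * x⁻¹ →
      y * z * y⁻¹ ∈ NN M ∧ x * c * x⁻¹ * (y * z * y⁻¹) * (x * c * x⁻¹) = y * z * y⁻¹ := by
    intro y hy w hw ew
    refine ⟨mul_mem (mul_mem (M_le hy) h.hzN) (inv_mem (M_le hy)), ?_⟩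
    rw [← ew, show y * w * y⁻¹ * (y * z * y⁻¹) * (y * w * y⁻¹) = y * (w * z * w) * y⁻¹ by group,
      conj_eq_of_comm (mul_self (h.cout_invol hw)) hw.1]
  obtain ⟨a1, a2⟩ := hd x hx c hc rfl
  obtain ⟨b1, b2⟩ := hd x' hx' c' hc' e.symm
  have hcm := h.commute_two_point ht htN a1 (a2.symm ▸ a1) b1 (b2.symm ▸ b1)
  have hy : x⁻¹ * x' = 1 := by
    -- two commuting involutions of the normaliser are equal
    set y := x⁻¹ * x' with hy
    have hyM : y ∈ M := mul_mem (inv_mem hx) hx'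
    have hcm' : z * (y * z * y⁻¹) = (y * z * y⁻¹) * z := by
      calc z * (y * z * y⁻¹) = x⁻¹ * ((x * z * x⁻¹) * (x' * z * x'⁻¹)) * x := by rw [hy]; group
        _ = x⁻¹ * ((x' * z * x'⁻¹) * (x * z * x⁻¹)) * x := by rw [hcm]
        _ = (y * z * y⁻¹) * z := by rw [hy]; group
    have hyN : y * z * y⁻¹ ∈ HH M z :=
      mem_HH.mpr ⟨mul_mem (mul_mem (M_le hyM) h.hzN) (inv_mem (M_le hyM)), hcm'.symm⟩
    exact h.eq_one_of_comm hyM
      (mul_inv_eq_iff_eq_mul.mp (h.unique_invol (orderOf_conj' y h.hz) hyN)).symm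
  have hxx := inv_mul_eq_one.mp hy
  subst hxx
  exact ⟨rfl, mul_left_cancel (mul_right_cancel e)⟩

theorem out_injOn {a c b a' c' b' : G} (ha : a ∈ M) (hc : c ∈ Cout M z) (hb : b ∈ M) (ha' : a' ∈ M)
    (hc' : c' ∈ Cout M z) (hb' : b' ∈ M) (e : a * c * b = a' * c' * b') :
    a = a' ∧ c = c' ∧ b = b' := by
  obtain ⟨ht, htN⟩ := h.conj_cout_out ha hc
  obtain ⟨ht', -⟩ := h.conj_cout_out ha' hc'
  have e' : (a * c * a⁻¹)⁻¹ * (a' * c' * a'⁻¹) = (a * b) * (b'⁻¹ * a'⁻¹) := by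
    rw [show (a' * c' * a'⁻¹) = (a' * c' * b') * (b'⁻¹ * a'⁻¹) by group, ← e]; group
  obtain ⟨rfl, rfl⟩ := h.conj_cout_injOn ha hc ha' hc'
    (h.outside_unique ht htN ht' (e' ▸ mul_mem (mul_mem ha hb) (mul_mem (inv_mem hb') (inv_mem ha'))))
  exact ⟨rfl, rfl, mul_left_cancel e⟩

theorem card_group :
    Nat.card G = Nat.card M * Nat.card (HH M z) + Nat.card M * Nat.card M * (Cout M z).ncard := by
  classical
  have hout : ((NN M : Set G)ᶜ).ncard = Nat.card M * Nat.card M * (Cout M z).ncard := by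
    have e : ((NN M : Set G)ᶜ) = (fun p : G × G × G => p.1 * p.2.1 * p.2.2) ''
        ((M : Set G) ×ˢ (Cout M z ×ˢ (M : Set G))) := by
      ext g
      constructor
      · intro hg
        obtain ⟨a, ha, c, hc, b, hb, e⟩ := h.decomp_out hg
        exact ⟨(a, c, b), ⟨ha, hc, hb⟩, e⟩
      · rintro ⟨⟨a, c, b⟩, ⟨ha, hc, hb⟩, rfl⟩ hmem
        exact hc.2 ((mul_mem_cancel_left (M_le ha)).mp ((mul_mem_cancel_right (M_le hb)).mp hmem))
    rw [e, Set.InjOn.ncard_image, Set.ncard_prod, Set.ncard_prod]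
    · show Nat.card M * (_ * Nat.card M) = _
      ring
    · rintro ⟨a, c, b⟩ ⟨ha, hc, hb⟩ ⟨a', c', b'⟩ ⟨ha', hc', hb'⟩ e
      obtain ⟨r1, r2, r3⟩ := h.out_injOn ha hc hb ha' hc' hb' e
      exact Prod.ext r1 (Prod.ext r2 r3)
  rw [← Set.ncard_add_ncard_compl (NN M : Set G), hout, ← h.card_NN]
  rfl

theorem card_invol :
    {t : G | orderOf t = 2}.ncard = Nat.card M + Nat.card M * (Cout M z).ncard := by
  classical
  have hout : {t : G | orderOf t = 2 ∧ t ∉ NN M}.ncard = Nat.card M * (Cout M z).ncard := by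
    have e : {t : G | orderOf t = 2 ∧ t ∉ NN M} = (fun p : G × G => p.1 * p.2 * p.1⁻¹) ''
        ((M : Set G) ×ˢ Cout M z) := by
      ext g
      constructor
      · rintro ⟨hg, hgN⟩
        obtain ⟨a, ha, c, hc, e⟩ := h.exists_conj hg hgN
        exact ⟨(a, c), ⟨ha, hc⟩, e⟩
      · rintro ⟨⟨a, c⟩, ⟨ha, hc⟩, rfl⟩
        exact h.conj_cout_out ha hc
    rw [e, Set.InjOn.ncard_image, Set.ncard_prod]
    · rfl
    · rintro ⟨a, c⟩ ⟨ha, hc⟩ ⟨a', c'⟩ ⟨ha', hc'⟩ e
      obtain ⟨r1, r2⟩ := h.conj_cout_injOn ha hc ha' hc' e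
      exact Prod.ext r1 r2
  rw [← hout, ← h.card_involutions_in, ← Set.ncard_union_eq]
  · congr 1
    ext t
    simp only [Set.mem_setOf_eq, Set.mem_union]
    tauto
  · rw [Set.disjoint_left]
    rintro t ⟨-, h1⟩ ⟨-, h2⟩
    exact h2 h1

theorem card_centralizer :
    Nat.card (centralizer ({z} : Set G)) = Nat.card (HH M z) + (Cout M z).ncard := by
  classical
  rw [show Nat.card (centralizer ({z} : Set G)) = (centralizer ({z} : Set G) : Set G).ncard from rfl,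
    show Nat.card (HH M z) = (HH M z : Set G).ncard from rfl, ← Set.ncard_union_eq]
  · congr 1
    ext c
    rw [SetLike.mem_coe, mem_centralizer_singleton_iff]
    by_cases hcN : c ∈ NN M
    · exact ⟨fun e => Or.inl (mem_HH.mpr ⟨hcN, e⟩), fun e => e.elim (fun e => (mem_HH.mp e).2) (·.1)⟩
    · exact ⟨fun e => Or.inr ⟨e, hcN⟩, fun e => e.elim (fun e => (mem_HH.mp e).2) (·.1)⟩
  · rw [Set.disjoint_left]
    intro c hc hc'
    exact hc'.2 (mem_HH.mp hc).1

/-- If the centraliser of `z` is more than two cosets of the complement, it is elementary abelian. -/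
theorem elementary {c c' : G} (hc : c ∈ Cout M z) (hc' : c' ∈ Cout M z) (hne : c * c' ∉ NN M) :
    (∀ η ∈ HH M z, η = 1 ∨ η = z) ∧ ∀ x : G, x * z = z * x → x * x = 1 := by
  have hw : c * c' ∈ Cout M z := ⟨by rw [mul_assoc, hc'.1, ← mul_assoc, hc.1, mul_assoc], hne⟩
  have h2 : ∀ η ∈ HH M z, η * η = 1 := by
    intro η hη
    have e1 : c' * c * η * (c * c') = η := by
      calc c' * c * η * (c * c') = c' * (c * η * c) * c' := by group
        _ = c' * η⁻¹ * c' := by rw [h.cout_inverts hc hη]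
        _ = η := by rw [h.cout_inverts hc' (inv_mem hη), inv_inv]
    have e3 : c' * c = c * c' := by
      calc c' * c = (c * c')⁻¹ := by
            rw [mul_inv_rev, inv_self (h.cout_invol hc), inv_self (h.cout_invol hc')]
        _ = c * c' := inv_self (h.cout_invol hw)
    have e4 : η⁻¹ = η := by rw [← h.cout_inverts hw hη]; rwa [e3] at e1
    exact eq_inv_iff_mul_eq_one.mp e4.symm
  refine ⟨fun η hη => ?_, fun x hx => ?_⟩
  · by_cases hη1 : η = 1
    · exact Or.inl hη1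
    · exact Or.inr (h.unique_invol (two_of (h2 η hη) hη1) hη)
  · by_cases hxN : x ∈ NN M
    · exact h2 x (mem_HH.mpr ⟨hxN, hx⟩)
    · exact mul_self (h.cout_invol ⟨hx, hxN⟩)

end Full

end CfsgLib.TIInvCount
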