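/-
The case of an elementary abelian centraliser: `PSL₂` in characteristic two, or a split extension of an
elementary abelian group by a dihedral group.
-/
import Cfsg.Agent.Lib.TIInvCount.Points
import Cfsg.Agent.S1230
import Cfsg.Agent.Lib.SL2Char.Tori
import Cfsg.Agent.Lib.CoprimeGen
import Cfsg.Agent.Lib.Involutions
import Cfsg.Agent.Lib.PrimeGraphExt

set_option autoImplicit false
set_option linter.unusedSectionVars false

namespace CfsgLib.TIInvCount

open Subgroup

variable {G : Type*} [Group G]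

/-- The elementary case. -/
structure Elem (M : Subgroup G) (z : G) : Prop extends Full M z where
  hH : ∀ η ∈ HH M z, η = 1 ∨ η = z
  sq : ∀ x : G, x * z = z * x → x * x = 1
  big : ∃ c ∈ Cout M z, ∃ c' ∈ Cout M z, c * c' ∉ NN M

/-- The conjugates of an element. -/
def cls (z : G) : Set G := Set.range fun g => g * z * g⁻¹

theorem cls_mul_centralizer [Finite G] (z : G) :
    (cls z).ncard * Nat.card (centralizer ({z} : Set G)) = Nat.card G := by
  let ψ : G ⧸ centralizer ({z} : Set G) → G := Quotient.lift (fun g => g * z * g⁻¹) (by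
    intro a b hab
    have h1 := mem_centralizer_singleton_iff.mp (QuotientGroup.leftRel_apply.mp hab)
    calc a * z * a⁻¹ = a * (z * (a⁻¹ * b)) * b⁻¹ := by group
      _ = a * (a⁻¹ * b * z) * b⁻¹ := by rw [h1]
      _ = b * z * b⁻¹ := by group)
  have hψ : Function.Injective ψ := by
    rintro ⟨a⟩ ⟨b⟩ (e : a * z * a⁻¹ = b * z * b⁻¹)
    refine QuotientGroup.eq.mpr (mem_centralizer_singleton_iff.mpr ?_)
    calc a⁻¹ * b * z = a⁻¹ * (b * z * b⁻¹) * b := by group
      _ = z * (a⁻¹ * b) := by rw [← e]; group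
  have hr : Set.range ψ = cls z := by
    ext w
    constructor
    · rintro ⟨⟨a⟩, rfl⟩; exact ⟨a, rfl⟩
    · rintro ⟨a, rfl⟩; exact ⟨(a : G ⧸ centralizer ({z} : Set G)), rfl⟩
  rw [← hr, Set.ncard_range_of_injective hψ]
  exact Subgroup.index_mul_card _

variable {M : Subgroup G} {z : G}

namespace Elem

variable [Finite G] (h : Elem M z)
include h

theorem card_HH : Nat.card (HH M z) = 2 := by
  rw [show Nat.card (HH M z) = (HH M z : Set G).ncard from rfl,
    show ((HH M z : Subgroup G) : Set G) = {1, z} from Set.ext fun η => ⟨h.hH η, by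
      rintro (rfl | rfl)
      · exact one_mem _
      · exact h.z_mem_HH⟩]
  exact Set.ncard_pair (Ne.symm (ne_one h.hz))

theorem cls_subset : cls z ⊆ {t : G | orderOf t = 2} := by
  rintro _ ⟨g, rfl⟩
  exact orderOf_conj' g h.hz

theorem exists_params : ∃ a : ℕ, 1 ≤ a ∧ Nat.card (centralizer ({z} : Set G)) = 2 * 2 ^ a ∧
    (Cout M z).ncard + 2 = 2 * 2 ^ a ∧ (Nat.card M = 2 ^ a + 1 ∨ Nat.card M = 2 * 2 ^ a + 1) := by
  haveI : Fact (Nat.Prime 2) := ⟨Nat.prime_two⟩
  have hP : IsPGroup 2 (centralizer ({z} : Set G)) := fun x => ⟨1, by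
    rw [pow_one, pow_two]
    exact Subtype.ext (h.sq x (mem_centralizer_singleton_iff.mp x.2))⟩
  obtain ⟨n, hn⟩ := IsPGroup.iff_card.mp hP
  have hC := h.card_centralizer
  rw [hn, h.card_HH] at hC
  obtain ⟨c, hc, c', hc', hne⟩ := h.big
  have hcard2 : 1 < (Cout M z).ncard := (Set.one_lt_ncard (Set.toFinite _)).mpr
    ⟨c, hc, c', hc', fun e => hne (by rw [← e, mul_self (h.cout_invol hc)]; exact one_mem _)⟩
  have hn2 : 2 ≤ n := by
    by_contra hlt
    interval_cases n <;> omega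
  obtain ⟨a, rfl⟩ : ∃ a, n = a + 1 := ⟨n - 1, by omega⟩
  rw [pow_succ'] at hn hC
  refine ⟨a, by omega, hn, by omega, ?_⟩
  set q := 2 ^ a with hq
  set m := Nat.card M with hm
  have hG := h.card_group
  rw [h.card_HH] at hG
  have hco : (Cout M z).ncard = 2 * (q - 1) := by omega
  rw [hco] at hG
  have hG' : Nat.card G = 2 * m * (1 + m * (q - 1)) := by rw [hG, ← hm]; ring
  have hI := h.card_invol
  rw [hco, ← hm] at hI
  have hle := Set.ncard_le_ncard h.cls_subset (Set.toFinite _)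
  rw [hI] at hle
  have hcls := cls_mul_centralizer z
  rw [hn, hG'] at hcls
  have hq2 : 2 ≤ q := by
    rw [hq]; exact le_trans (by norm_num) (Nat.pow_le_pow_right two_pos (show 1 ≤ a by omega))
  obtain ⟨r, hr⟩ : ∃ r, q = r + 2 := ⟨q - 2, by omega⟩
  have hm0 : 0 < m := Nat.card_pos
  -- the bound
  have hbound : m ≤ 2 * q + 1 := by
    have h1 : 2 * m * (1 + m * (q - 1)) ≤ (m + m * (2 * (q - 1))) * (2 * q) := hcls ▸ Nat.mul_le_mul_right _ hle
    rw [hr, show r + 2 - 1 = r + 1 by omega] at h1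
    rw [hr]
    by_contra hgt
    push Not at hgt
    have h2 : (m + m * (2 * (r + 1))) * (2 * (r + 2)) = 2 * m * ((2 * r + 3) * (r + 2)) := by ring
    rw [h2] at h1
    have h3 := Nat.le_of_mul_le_mul_left h1 (by omega)
    have h4 : (2 * (r + 2) + 2) * (r + 1) ≤ m * (r + 1) := Nat.mul_le_mul_right _ (by omega)
    ring_nf at h3 h4
    omega
  -- the congruence
  have hdvd : q ∣ m - 1 := by
    have hcop : Nat.Coprime q m := Nat.Coprime.pow_left _ (Nat.coprime_two_left.mpr h.odd_M)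
    have h1 : q ∣ m * (1 + m * (q - 1)) := by
      refine Nat.dvd_of_mul_dvd_mul_left (k := 2) two_pos ⟨(cls z).ncard, ?_⟩
      rw [← mul_assoc 2 m, ← hcls]; ring
    have h2 := hcop.dvd_of_dvd_mul_left h1
    have h3 : q ∣ (1 + m * (q - 1)) + (m - 1) := ⟨m, by
      rw [hr, show r + 2 - 1 = r + 1 by omega]
      ring_nf
      omega⟩
    exact (Nat.dvd_add_right h2).mp h3
  obtain ⟨j, hj⟩ := hdvd
  have hm3 := h.two_lt
  have hj2 : j ≤ 2 := by
    by_contra hlt
    have : q * 3 ≤ q * j := Nat.mul_le_mul_left _ (by omega)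
    omega
  interval_cases j <;> omega

theorem card_G {a : ℕ} (hco : (Cout M z).ncard + 2 = 2 * 2 ^ a) :
    Nat.card G = 2 * Nat.card M * (1 + Nat.card M * (2 ^ a - 1)) := by
  have hG := h.card_group
  rw [h.card_HH, show (Cout M z).ncard = 2 * (2 ^ a - 1) by omega] at hG
  rw [hG]; ring

theorem psl {a : ℕ} (ha : 1 ≤ a) (hn : Nat.card (centralizer ({z} : Set G)) = 2 * 2 ^ a)
    (hco : (Cout M z).ncard + 2 = 2 * 2 ^ a) (hm : Nat.card M = 2 * 2 ^ a + 1) :
    ∃ (F : Type) (_ : Field F) (_ : Fintype F) (e : ℕ), 1 < e ∧ Fintype.card F = 2 ^ e ∧ IsCyclic ↥M ∧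
      Nat.card M = 2 ^ e + 1 ∧ Nonempty (G ≃* Matrix.ProjectiveSpecialLinearGroup (Fin 2) F) := by
  classical
  haveI : Fact (Nat.Prime 2) := ⟨Nat.prime_two⟩
  obtain ⟨r, hr⟩ : ∃ r, 2 ^ a = r + 1 := ⟨2 ^ a - 1, by have := Nat.one_le_two_pow (n := a); omega⟩
  have hr1 : 1 ≤ r := by
    have : 2 ≤ 2 ^ a := le_trans (by norm_num) (Nat.pow_le_pow_right two_pos ha)
    omega
  have hG := h.card_G hco
  rw [hm, hr, show r + 1 - 1 = r by omega] at hG
  have hG' : Nat.card G = Nat.card (centralizer ({z} : Set G)) * ((2 * (r + 1) + 1) * (2 * r + 1)) := by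
    rw [hG, hn, hr]; ring
  set C := centralizer ({z} : Set G) with hC
  have hidx : C.index = (2 * (r + 1) + 1) * (2 * r + 1) := by
    have := Subgroup.card_mul_index C
    rw [hG'] at this
    exact Nat.eq_of_mul_eq_mul_left Nat.card_pos this
  have hP : IsPGroup 2 C := IsPGroup.of_card (n := a + 1) (by rw [hn, pow_succ'])
  let T : Sylow 2 G := hP.toSylow (by
    rw [hidx, ← even_iff_two_dvd, Nat.not_even_iff_odd]
    exact (Nat.odd_iff.mpr (by omega)).mul (Nat.odd_iff.mpr (by omega)))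
  have hTC : (T : Subgroup G) = C := rfl
  have hIeq : cls z = {t : G | orderOf t = 2} := by
    refine Set.eq_of_subset_of_ncard_le h.cls_subset ?_ (Set.toFinite _)
    have hI := h.card_invol
    rw [show (Cout M z).ncard = 2 * r by omega, hm, hr] at hI
    rw [hI]
    have := cls_mul_centralizer z
    rw [hG, hn, hr] at this
    refine Nat.le_of_eq (Nat.eq_of_mul_eq_mul_right (show 0 < 2 * (r + 1) by omega) ?_)
    rw [this]; ring
  have hcent : ∀ t : G, orderOf t = 2 → IsMulCommutative (centralizer ({t} : Set G)) ∧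
      ∀ c ∈ centralizer ({t} : Set G), c ^ 2 = 1 := by
    intro t ht
    obtain ⟨g, rfl⟩ : t ∈ cls z := hIeq ▸ ht
    have key : ∀ c ∈ centralizer ({g * z * g⁻¹} : Set G), c * c = 1 := by
      intro c hc
      have h1 := h.sq (g⁻¹ * c * g) (by
        have e : c * (g * z * g⁻¹) = g * z * g⁻¹ * c := mem_centralizer_singleton_iff.mp hc
        calc g⁻¹ * c * g * z = g⁻¹ * (c * (g * z * g⁻¹)) * g := by group
          _ = z * (g⁻¹ * c * g) := by rw [e]; group)
      calc c * c = g * ((g⁻¹ * c * g) * (g⁻¹ * c * g)) * g⁻¹ := by group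
        _ = 1 := by rw [h1]; group
    exact ⟨⟨⟨fun c d => Subtype.ext (by
      calc (c : G) * d = ((c : G) * d)⁻¹ := eq_inv_iff_mul_eq_one.mpr (key _ (mul_mem c.2 d.2))
        _ = d * c := by
          rw [mul_inv_rev, inv_eq_of_mul_eq_one_right (key _ d.2),
            inv_eq_of_mul_eq_one_right (key _ c.2)])⟩⟩, fun c hc => by rw [pow_two]; exact key c hc⟩
  have hnc : ¬ IsCyclic (T : Subgroup G) := by
    intro hcyc
    obtain ⟨g, hg⟩ := hcyc.exists_generator
    have h1 : Nat.card (T : Subgroup G) = orderOf g :=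
      (orderOf_eq_card_of_forall_mem_zpowers hg).symm
    have h2 : orderOf g ∣ 2 := orderOf_dvd_of_pow_eq_one (Subtype.ext (by
      rw [SubgroupClass.coe_pow, OneMemClass.coe_one, pow_two]
      exact h.sq g (mem_centralizer_singleton_iff.mp g.2)))
    have h3 := Nat.le_of_dvd two_pos h2
    rw [← h1, hTC, hn, hr] at h3
    omega
  have hnn : ¬ (T : Subgroup G).Normal := by
    intro hTn
    have hsub : cls z ⊆ (C : Set G) := by
      rintro _ ⟨g, rfl⟩
      exact hTC ▸ hTn.conj_mem z (mem_centralizer_singleton_iff.mpr rfl) g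
    have h1 := Set.ncard_le_ncard hsub (Set.toFinite _)
    have h2 := cls_mul_centralizer z
    rw [hG'] at h2
    have h3 : (cls z).ncard = (2 * (r + 1) + 1) * (2 * r + 1) :=
      Nat.eq_of_mul_eq_mul_right (Nat.card_pos (α := C)) (h2.trans (mul_comm _ _))
    rw [h3, show (C : Set G).ncard = Nat.card C from rfl, hn, hr] at h1
    ring_nf at h1
    omega
  obtain ⟨F, iF, iFt, hF, ⟨e⟩⟩ := Cfsg.Agent.S1230.result T hnc hnn hcent
  rw [hTC, hn, ← pow_succ'] at hF
  haveI : CharP F 2 := by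
    obtain ⟨p, hp⟩ := CharP.exists F
    haveI := hp
    obtain ⟨k, hpp, hk⟩ := FiniteField.card F p
    rw [hF] at hk
    have h2 : (2 : ℕ) ∣ p ^ (k : ℕ) := hk ▸ dvd_pow_self 2 (by omega)
    rw [(Nat.prime_dvd_prime_iff_eq Nat.prime_two hpp).mp (Nat.prime_two.dvd_of_dvd_pow h2)]
    exact hp
  refine ⟨F, iF, iFt, a + 1, by omega, hF, ?_, by rw [hm, pow_succ'], ⟨e⟩⟩
  obtain ⟨⟨x, hx⟩, hx1⟩ := Subgroup.ne_bot_iff_exists_ne_one.mp h.ne
  let φ := e.trans CfsgLib.PrimeGraphExt.pslEquiv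
  have htr : (φ x).1.trace ^ 2 ≠ 4 := by
    intro ht
    have h4 : (4 : F) = 0 := by
      rw [show (4 : F) = ((2 : ℕ) : F) * 2 by norm_num, CharP.cast_eq_zero, zero_mul]
    rw [h4] at ht
    have ht0 : (φ x).1.trace = 0 := eq_zero_of_pow_eq_zero ht
    have h1 := CfsgLib.SL2Orders.sq_eq (φ x)
    have h11 : (-1 : F) = 1 := CharTwo.neg_eq 1
    rw [ht0, zero_smul, zero_sub] at h1
    have h2 : φ x * φ x = 1 := by
      refine Subtype.ext ?_
      rw [Matrix.SpecialLinearGroup.coe_mul, Matrix.SpecialLinearGroup.coe_one]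
      refine h1.trans ?_
      rw [← neg_one_smul F (1 : Matrix (Fin 2) (Fin 2) F), h11, one_smul]
    have hxx : x * x = 1 := φ.injective (by rw [map_mul, map_one, h2])
    exact h.no_invol hx (two_of hxx fun e' => hx1 (Subtype.ext e'))
  haveI := (CfsgLib.SL2Tori.isCyclic_centralizer htr).1
  let f : M →* centralizer ({φ x} : Set (Matrix.SpecialLinearGroup (Fin 2) F)) :=
    { toFun := fun y => ⟨φ y, mem_centralizer_singleton_iff.mpr (by
        rw [← map_mul, ← map_mul, h.comm y.2 hx])⟩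
      map_one' := Subtype.ext (map_one φ)
      map_mul' := fun y w => Subtype.ext (map_mul φ _ _) }
  exact isCyclic_of_injective f fun y w e' => Subtype.ext (φ.injective (congrArg Subtype.val e'))

section Split

variable {a : ℕ} (ha : 1 ≤ a) (hn : Nat.card (centralizer ({z} : Set G)) = 2 * 2 ^ a)
  (hco : (Cout M z).ncard + 2 = 2 * 2 ^ a) (hm : Nat.card M = 2 ^ a + 1)
include ha hn hco hm

theorem card_G' : Nat.card G = 2 ^ (2 * a + 1) * (2 ^ a + 1) := by
  rw [h.card_G hco, hm]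
  obtain ⟨r, hr⟩ : ∃ r, 2 ^ a = r + 1 := ⟨2 ^ a - 1, by have := Nat.one_le_two_pow (n := a); omega⟩
  rw [pow_succ', two_mul a, pow_add, hr, show r + 1 - 1 = r by omega]
  ring

theorem cls_card : (cls z).ncard = 2 ^ a * (2 ^ a + 1) := by
  refine Nat.eq_of_mul_eq_mul_right (show 0 < 2 * 2 ^ a by positivity) ?_
  have := cls_mul_centralizer z
  rw [hn, h.card_G' ha hn hco hm] at this
  rw [this, pow_succ', two_mul a, pow_add]
  ring

theorem sylow_card (S : Sylow 2 G) : Nat.card S = 2 ^ (2 * a + 1) := by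
  haveI : Fact (Nat.Prime 2) := ⟨Nat.prime_two⟩
  obtain ⟨v, hv⟩ := IsPGroup.iff_card.mp S.2
  have hidx : ¬ 2 ∣ (S : Subgroup G).index := Sylow.not_dvd_index S
  have e := Subgroup.card_mul_index (S : Subgroup G)
  rw [hv, h.card_G' ha hn hco hm] at e
  have hodd : Odd (2 ^ a + 1) := hm ▸ h.odd_M
  refine Nat.dvd_antisymm ?_ ?_
  · rw [hv]
    exact (Nat.Coprime.pow_left _ (Nat.coprime_two_left.mpr hodd)).dvd_of_dvd_mul_right ⟨_, e.symm⟩
  · rw [hv]
    exact (Nat.Coprime.pow_left _ (Nat.prime_two.coprime_iff_not_dvd.mpr hidx)).dvd_of_dvd_mul_right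
      (e ▸ dvd_mul_right _ _)

theorem exists_conj_mem_M {x : G} {r : ℕ} (hr : r.Prime) (hr2 : r ≠ 2) (hx : orderOf x = r) :
    ∃ g : G, g * x * g⁻¹ ∈ M := by
  haveI := Fact.mk hr
  have hM : M.index = 2 ^ (2 * a + 1) := by
    have := Subgroup.index_mul_card M
    rw [h.card_G' ha hn hco hm, hm] at this
    exact Nat.eq_of_mul_eq_mul_right (by positivity) this
  obtain ⟨P⟩ : Nonempty (Sylow r M) := inferInstance
  let P' : Sylow r G := (P.2.map M.subtype).toSylow (by
    rw [Subgroup.index_map_subtype, hM]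
    intro hd
    rcases hr.dvd_mul.mp hd with hd | hd
    · exact Sylow.not_dvd_index P hd
    · exact hr2 ((Nat.prime_dvd_prime_iff_eq hr Nat.prime_two).mp (hr.dvd_of_dvd_pow hd)))
  obtain ⟨Q, hQ⟩ := (IsPGroup.of_card (p := r) (n := 1)
    (by rw [Nat.card_zpowers, hx, pow_one]) : IsPGroup r (Subgroup.zpowers x)).exists_le_sylow
  obtain ⟨g, hg⟩ := MulAction.exists_smul_eq G Q P'
  refine ⟨g, ?_⟩
  have h1 : g * x * g⁻¹ ∈ (↑(g • Q) : Subgroup G) := ⟨x, hQ (Subgroup.mem_zpowers x), rfl⟩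
  rw [hg] at h1
  exact Subgroup.map_subtype_le _ h1

theorem two_of_commute {y t : G} (ht : orderOf t = 2) (e : y * t = t * y) :
    ∃ k, orderOf y = 2 ^ k := by
  refine ⟨_, Nat.eq_prime_pow_of_unique_prime_dvd (orderOf_pos y).ne' fun {r} hr hd => ?_⟩
  by_contra hr2
  obtain ⟨g, hg⟩ := h.exists_conj_mem_M ha hn hco hm hr hr2 (x := y ^ (orderOf y / r))
    (orderOf_pow_orderOf_div (orderOf_pos y).ne' hd)
  set w := y ^ (orderOf y / r) with hw
  have hw1 : w ≠ 1 := fun e1 => by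
    have := orderOf_pow_orderOf_div (orderOf_pos y).ne' hd
    rw [← hw, e1, orderOf_one] at this
    exact hr.ne_one this.symm
  refine h.not_commute (orderOf_conj' g ht) hg (fun e1 => hw1 (conj_eq_one_iff.mp e1)) ?_
  have e2 : t * w = w * t := ((show Commute y t from e).pow_left _).eq.symm
  rw [conj_mul, conj_mul, e2]

theorem exists_sylow_pair {u v : G} (hu : orderOf u = 2) (hv : orderOf v = 2)
    (hev : Even (orderOf (u * v))) : ∃ S : Sylow 2 G, u ∈ S ∧ v ∈ S := by
  haveI : Fact (Nat.Prime 2) := ⟨Nat.prime_two⟩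
  obtain ⟨h1, h2⟩ := CfsgLib.Involutions.central_half (mul_self hu) (mul_self hv) hev
  have h3 := CfsgLib.Involutions.orderOf_half (x := u) (y := v) hev
  set w := (u * v) ^ (orderOf (u * v) / 2)
  have hP : IsPGroup 2 (centralizer ({w} : Set G)) := fun x => by
    obtain ⟨k, hk⟩ := h.two_of_commute ha hn hco hm h3 (mem_centralizer_singleton_iff.mp x.2)
    exact ⟨k, Subtype.ext (by rw [SubgroupClass.coe_pow, OneMemClass.coe_one, ← hk, pow_orderOf_eq_one])⟩
  obtain ⟨S, hS⟩ := hP.exists_le_sylow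
  exact ⟨S, hS (mem_centralizer_singleton_iff.mpr h1.symm.eq), hS (mem_centralizer_singleton_iff.mpr h2.symm.eq)⟩

/-- At most `2 ^ a` conjugates of `z` generate a two-group with `z`. -/
theorem near_le : {w ∈ cls z | ¬ (Odd (orderOf (z * w)) ∧ w ≠ z)}.ncard ≤ 2 ^ a := by
  classical
  haveI := Fintype.ofFinite G
  set A := {w ∈ cls z | Odd (orderOf (z * w)) ∧ w ≠ z} with hA
  set B := {w ∈ cls z | ¬ (Odd (orderOf (z * w)) ∧ w ≠ z)} with hB
  have hAB : A.ncard + B.ncard = 2 ^ a * (2 ^ a + 1) := by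
    rw [← h.cls_card ha hn hco hm, ← Set.ncard_union_eq]
    · congr 1
      ext w
      simp only [hA, hB, Set.mem_union, Set.mem_setOf_eq]
      tauto
    · rw [Set.disjoint_left]
      rintro w ⟨-, h1⟩ ⟨-, h2⟩
      exact h2 h1
  let s : Finset (G × G) := ((centralizer ({z} : Set G) : Set G).toFinset) ×ˢ ((M : Set G).toFinset.erase 1)
  let f : G × G → G := fun p => p.1 * (z * p.2) * p.1⁻¹
  have hs : s.card = 2 * 2 ^ a * 2 ^ a := by
    rw [Finset.card_product, Finset.card_erase_of_mem (by simp [one_mem]), ← Set.ncard_eq_toFinset_card',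
      ← Set.ncard_eq_toFinset_card', show (M : Set G).ncard = Nat.card M from rfl,
      show (centralizer ({z} : Set G) : Set G).ncard = Nat.card (centralizer ({z} : Set G)) from rfl, hn, hm,
      Nat.add_sub_cancel]
  have himg : ∀ p ∈ s, f p ∈ A := by
    rintro ⟨c, x⟩ hp
    simp only [s, Finset.mem_product, Set.mem_toFinset, Finset.mem_erase, SetLike.mem_coe] at hp
    obtain ⟨hc, hx1, hx⟩ := hp
    have hcz := mem_centralizer_singleton_iff.mp hc
    have hzx : orderOf (z * x) = 2 := two_of (by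
      calc z * x * (z * x) = (z * x * z) * x := by group
        _ = 1 := by rw [h.z_conj hx, inv_mul_cancel]) (fun e => h.no_invol (x := z)
          (by rw [show z = x⁻¹ from eq_inv_of_mul_eq_one_left e]; exact inv_mem hx) h.hz)
    obtain ⟨y, -, e⟩ := h.exists_conj_z hzx (mul_mem h.hzN (M_le hx))
    have e2 : z * f (c, x) = c * x * c⁻¹ := by
      show z * (c * (z * x) * c⁻¹) = _
      rw [← mul_assoc z (c * (z * x)), ← mul_assoc z c, ← hcz, mul_assoc c z, ← mul_assoc z z,
        mul_self h.hz, one_mul]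
    refine ⟨⟨c * y, ?_⟩, ?_, fun e' => hx1 ?_⟩
    · show c * y * z * (c * y)⁻¹ = c * (z * x) * c⁻¹
      rw [← e]; group
    · rw [e2, show c * x * c⁻¹ = MulAut.conj c x from rfl, MulEquiv.orderOf_eq]
      exact h.odd_M.of_dvd_nat (Subgroup.orderOf_dvd_natCard _ hx)
    · rw [e', mul_self h.hz] at e2
      exact conj_eq_one_iff.mp e2.symm
  have hfib : ∀ w ∈ s.image f, (s.filter fun p => f p = w).card ≤ 2 := by
    intro w hw
    obtain ⟨⟨c, x⟩, hp, rfl⟩ := Finset.mem_image.mp hw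
    simp only [s, Finset.mem_product, Set.mem_toFinset, Finset.mem_erase, SetLike.mem_coe] at hp
    obtain ⟨hc, hx1, hx⟩ := hp
    refine (Finset.card_le_card (t := {(c, x), (c * z, x⁻¹)}) ?_).trans Finset.card_le_two
    rintro ⟨c', x'⟩ hp'
    simp only [s, f, Finset.mem_filter, Finset.mem_product, Set.mem_toFinset, Finset.mem_erase,
      SetLike.mem_coe] at hp'
    obtain ⟨⟨hc', hx1', hx'⟩, e⟩ := hp'
    have hcz := mem_centralizer_singleton_iff.mp hc
    have hcz' := mem_centralizer_singleton_iff.mp hc'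
    -- strip the involution
    have e1 : c' * x' * c'⁻¹ = c * x * c⁻¹ := by
      have : z * (c' * (z * x') * c'⁻¹) = z * (c * (z * x) * c⁻¹) := by rw [e]
      rwa [← mul_assoc z (c' * (z * x')), ← mul_assoc z c', ← hcz', mul_assoc c' z, ← mul_assoc z z,
        mul_self h.hz, one_mul, ← mul_assoc z (c * (z * x)), ← mul_assoc z c, ← hcz, mul_assoc c z,
        ← mul_assoc z z, mul_self h.hz, one_mul] at this
    have hN : c⁻¹ * c' ∈ NN M := h.ti _ x' hx' hx1' (by
      rw [show c⁻¹ * c' * x' * (c⁻¹ * c')⁻¹ = c⁻¹ * (c' * x' * c'⁻¹) * c by group, e1,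
        show c⁻¹ * (c * x * c⁻¹) * c = x by group]
      exact hx)
    have hd : c⁻¹ * c' ∈ HH M z := Subgroup.mem_inf.mpr ⟨hN, mul_mem (inv_mem hc) hc'⟩
    rcases h.hH _ hd with hd1 | hdz
    · obtain rfl := inv_mul_eq_one.mp hd1
      simp [mul_left_cancel (mul_right_cancel e1)]
    · obtain rfl : c' = c * z := by rw [← hdz, mul_inv_cancel_left]
      have e3 : z * x' * z⁻¹ = x := by
        have : c * (z * x' * z⁻¹) * c⁻¹ = c * x * c⁻¹ := by rw [← e1]; group
        exact mul_left_cancel (mul_right_cancel this)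
      rw [inv_self h.hz, h.z_conj hx'] at e3
      simp [← e3]
  have hle : 2 ^ a * 2 ^ a ≤ A.ncard := by
    have h1 := Finset.card_le_mul_card_image s 2 hfib
    rw [hs, mul_assoc] at h1
    refine (Nat.le_of_mul_le_mul_left h1 two_pos).trans ?_
    rw [← Set.ncard_coe_finset]
    refine Set.ncard_le_ncard ?_ (Set.toFinite _)
    intro w hw
    obtain ⟨p, hp, rfl⟩ := Finset.mem_image.mp hw
    exact himg p hp
  rw [mul_add, mul_one] at hAB
  omega

theorem cls_inter_sylow {S : Sylow 2 G} (hzS : z ∈ S) :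
    cls z ∩ (S : Set G) = {w ∈ cls z | ¬ (Odd (orderOf (z * w)) ∧ w ≠ z)} := by
  haveI : Fact (Nat.Prime 2) := ⟨Nat.prime_two⟩
  refine Set.eq_of_subset_of_ncard_le ?_ ((h.near_le ha hn hco hm).trans ?_) (Set.toFinite _)
  · rintro w ⟨hw, hwS⟩
    refine ⟨hw, fun ⟨hodd, hne⟩ => hne ?_⟩
    obtain ⟨k, hk⟩ := IsPGroup.iff_orderOf.mp S.2 ⟨z * w, mul_mem hzS hwS⟩
    rw [Subgroup.orderOf_mk] at hk
    rcases Nat.eq_zero_or_pos k with rfl | hk0
    · rw [pow_zero, orderOf_eq_one_iff] at hk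
      rw [eq_inv_of_mul_eq_one_right hk, inv_self h.hz]
    · exact absurd (hk ▸ dvd_pow_self 2 hk0.ne') hodd.not_two_dvd_nat
  · have h1 := cls_mul_centralizer (⟨z, hzS⟩ : (S : Subgroup G))
    have h2 : Nat.card (centralizer ({⟨z, hzS⟩} : Set (S : Subgroup G))) ≤ 2 * 2 ^ a := by
      rw [← hn]
      refine Nat.card_le_card_of_injective (fun x => ⟨((x : (S : Subgroup G)) : G),
        mem_centralizer_singleton_iff.mpr
          (congrArg Subtype.val (mem_centralizer_singleton_iff.mp x.2))⟩) ?_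
      intro x y e
      exact Subtype.ext (Subtype.ext (congrArg (fun u : centralizer ({z} : Set G) => (u : G)) e))
    rw [h.sylow_card ha hn hco hm S] at h1
    have h3 : (cls (⟨z, hzS⟩ : (S : Subgroup G))).ncard ≤ (cls z ∩ (S : Set G)).ncard := by
      rw [← Set.ncard_image_of_injective _ (S : Subgroup G).subtype_injective]
      refine Set.ncard_le_ncard ?_ (Set.toFinite _)
      rintro _ ⟨_, ⟨g, rfl⟩, rfl⟩
      exact ⟨⟨g, rfl⟩, (g * (⟨z, hzS⟩ : (S : Subgroup G)) * g⁻¹).2⟩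
    refine le_trans ?_ h3
    by_contra hlt
    push Not at hlt
    have h4 := Nat.mul_lt_mul_of_lt_of_le hlt h2 (by positivity)
    rw [h1, pow_succ', two_mul a, pow_add] at h4
    have : 2 ^ a * (2 * 2 ^ a) = 2 * (2 ^ a * 2 ^ a) := by ring
    omega

/-- The involution lies in a unique Sylow subgroup. -/
theorem sylow_unique {S S' : Sylow 2 G} (hS : z ∈ S) (hS' : z ∈ S') : S = S' := by
  classical
  haveI : Fact (Nat.Prime 2) := ⟨Nat.prime_two⟩
  haveI := Fintype.ofFinite G
  set B := {w ∈ cls z | ¬ (Odd (orderOf (z * w)) ∧ w ≠ z)} with hB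
  let Stab : Subgroup G := Subgroup.normalizer B
  have hle : ∀ T : Sylow 2 G, z ∈ T → (T : Subgroup G) ≤ Stab := by
    intro T hT g hg
    rw [show Stab = Subgroup.normalizer B from rfl, Subgroup.mem_set_normalizer_iff]
    intro w
    rw [hB, ← h.cls_inter_sylow ha hn hco hm hT]
    refine ⟨fun ⟨⟨c, hc⟩, hw⟩ => ⟨⟨g * c, ?_⟩, mul_mem (mul_mem hg hw) (inv_mem hg)⟩,
      fun ⟨⟨c, hc⟩, hw⟩ => ⟨⟨g⁻¹ * c, ?_⟩, ?_⟩⟩
    · simp only at hc ⊢
      rw [← hc]; group
    · simp only at hc ⊢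
      rw [show g⁻¹ * c * z * (g⁻¹ * c)⁻¹ = g⁻¹ * (c * z * c⁻¹) * g by group, hc]; group
    · have := mul_mem (mul_mem (inv_mem hg) hw) hg
      rwa [show g⁻¹ * (g * w * g⁻¹) * g = w by group] at this
  have hP : IsPGroup 2 Stab := by
    refine IsPGroup.of_card (n := (Nat.card Stab).primeFactorsList.length)
      (Nat.eq_prime_pow_of_unique_prime_dvd Nat.card_pos.ne' fun {r} hr hd => ?_)
    by_contra hr2
    haveI := Fact.mk hr
    obtain ⟨⟨x, hx⟩, hxr⟩ := exists_prime_orderOf_dvd_card' (G := Stab) r hd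
    rw [Subgroup.orderOf_mk] at hxr
    obtain ⟨g, hg⟩ := h.exists_conj_mem_M ha hn hco hm hr hr2 hxr
    have hxne : x ≠ 1 := fun e => by rw [e, orderOf_one] at hxr; exact hr.ne_one hxr.symm
    let σ : Equiv.Perm B := (MulAut.conj x).toEquiv.subtypeEquiv fun w => (Subgroup.mem_set_normalizer_iff.mp hx w)
    have hσ : ∀ w : B, ((σ w : B) : G) = x * w * x⁻¹ := fun w => rfl
    have hσpow : ∀ (k : ℕ) (w : B), (((σ ^ k) w : B) : G) = x ^ k * w * (x ^ k)⁻¹ := by
      intro k
      induction k with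
      | zero => intro w; simp
      | succ k ih =>
        intro w
        rw [pow_succ, Equiv.Perm.mul_apply, ih, hσ, pow_succ]
        group
    have hpow : σ ^ r ^ 1 = 1 := Equiv.ext fun w => Subtype.ext (by
      rw [pow_one, hσpow, ← hxr, pow_orderOf_eq_one]; simp)
    have hfix : σ.supportᶜ = ∅ := Finset.eq_empty_of_forall_notMem fun w hw => by
      rw [Finset.mem_compl, Equiv.Perm.mem_support, not_not] at hw
      have hw' : x * w * x⁻¹ = w := (hσ w).symm.trans (congrArg Subtype.val hw)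
      have hwinv : orderOf (w : G) = 2 := h.cls_subset w.2.1
      refine h.not_commute (orderOf_conj' g hwinv) hg (fun e1 => hxne (conj_eq_one_iff.mp e1)) ?_
      rw [conj_mul, conj_mul, ← mul_inv_eq_iff_eq_mul.mp hw']
    have hmod := Equiv.Perm.card_compl_support_modEq (p := r) (n := 1) hpow
    rw [hfix, Finset.card_empty] at hmod
    have hBcard : Fintype.card B = 2 ^ a := by
      rw [← Nat.card_eq_fintype_card]
      refine le_antisymm (h.near_le ha hn hco hm) ?_
      have h1 := cls_mul_centralizer (⟨z, hS⟩ : (S : Subgroup G))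
      have h3 : (cls (⟨z, hS⟩ : (S : Subgroup G))).ncard ≤ B.ncard := by
        rw [← Set.ncard_image_of_injective _ (S : Subgroup G).subtype_injective, hB,
          ← h.cls_inter_sylow ha hn hco hm hS]
        refine Set.ncard_le_ncard ?_ (Set.toFinite _)
        rintro _ ⟨_, ⟨g, rfl⟩, rfl⟩
        exact ⟨⟨g, rfl⟩, (g * (⟨z, hS⟩ : (S : Subgroup G)) * g⁻¹).2⟩
      refine le_trans ?_ h3
      have h2 : Nat.card (centralizer ({⟨z, hS⟩} : Set (S : Subgroup G))) ≤ 2 * 2 ^ a := by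
        rw [← hn]
        refine Nat.card_le_card_of_injective (fun x => ⟨((x : (S : Subgroup G)) : G),
          mem_centralizer_singleton_iff.mpr
            (congrArg Subtype.val (mem_centralizer_singleton_iff.mp x.2))⟩) ?_
        intro x y e
        exact Subtype.ext (Subtype.ext (congrArg (fun u : centralizer ({z} : Set G) => (u : G)) e))
      rw [h.sylow_card ha hn hco hm S] at h1
      by_contra hlt
      push Not at hlt
      have h4 := Nat.mul_lt_mul_of_lt_of_le hlt h2 (by positivity)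
      rw [h1, pow_succ', two_mul a, pow_add] at h4
      have : 2 ^ a * (2 * 2 ^ a) = 2 * (2 ^ a * 2 ^ a) := by ring
      omega
    rw [hBcard] at hmod
    exact hr2 ((Nat.prime_dvd_prime_iff_eq hr Nat.prime_two).mp
      (hr.dvd_of_dvd_pow (Nat.modEq_zero_iff_dvd.mp hmod.symm)))
  exact Sylow.ext ((S.3 hP (hle S hS)).symm.trans (S'.3 hP (hle S' hS')))

/-- The split extension. -/
theorem split : ∃ (d : ℕ) (E : Subgroup G), 1 ≤ d ∧ E.Normal ∧ Cfsg.IsElementaryAbelian 2 E ∧
    Nat.card E = 2 ^ (2 * d) ∧ E ⊓ NN M = ⊥ ∧ E ⊔ NN M = ⊤ ∧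
    Nonempty (↥(NN M) ≃* DihedralGroup (2 ^ d + 1)) := by
  classical
  haveI : Fact (Nat.Prime 2) := ⟨Nat.prime_two⟩
  obtain ⟨S₀, hS₀⟩ : ∃ S : Sylow 2 G, z ∈ S := by
    obtain ⟨S, hS⟩ := (IsPGroup.of_card (p := 2) (n := 1)
      (by rw [Nat.card_zpowers, h.hz, pow_one]) : IsPGroup 2 (Subgroup.zpowers z)).exists_le_sylow
    exact ⟨S, hS (Subgroup.mem_zpowers z)⟩
  set U := {t : G | orderOf t = 2 ∧ t ∉ cls z} with hU
  have hUall : ∀ u ∈ U, ∀ S : Sylow 2 G, u ∈ S := by
    rintro u ⟨hu, hucls⟩ S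
    obtain ⟨g, hg⟩ := MulAction.exists_smul_eq G S₀ S
    have hv : g * z * g⁻¹ ∈ S := hg ▸ (⟨z, hS₀, rfl⟩ : g * z * g⁻¹ ∈ (↑(g • S₀) : Subgroup G))
    have hvo := orderOf_conj' g h.hz
    rcases Nat.even_or_odd (orderOf (g * z * g⁻¹ * u)) with hev | hod
    · obtain ⟨S', h1, h2⟩ := h.exists_sylow_pair ha hn hco hm hvo hu hev
      have hz' : ∀ T : Sylow 2 G, g * z * g⁻¹ ∈ T → g⁻¹ • T = S₀ := fun T hT =>
        h.sylow_unique ha hn hco hm
          (⟨g * z * g⁻¹, hT, by simp [MulAut.smul_def, MulAut.conj_apply, mul_assoc]⟩ :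
            z ∈ (↑(g⁻¹ • T) : Subgroup G)) hS₀
      have : S' = S := smul_left_cancel g⁻¹ ((hz' S' h1).trans (hz' S hv).symm)
      exact this ▸ h2
    · obtain ⟨d, -, e⟩ := CfsgLib.Involutions.exists_conj_eq_of_odd (mul_self hvo) (mul_self hu) hod
      exact absurd ⟨d * g, by rw [← e]; group⟩ hucls
  set E := (S₀ : Subgroup G).normalCore with hE
  have hEn : E.Normal := Subgroup.normalCore_normal _
  have hUE : ∀ u ∈ U, u ∈ E := by
    intro u hu g
    have hu' : g * u * g⁻¹ ∈ U := ⟨orderOf_conj' g hu.1, fun ⟨c, hc⟩ => hu.2 ⟨g⁻¹ * c, by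
      simp only at hc ⊢
      rw [show g⁻¹ * c * z * (g⁻¹ * c)⁻¹ = g⁻¹ * (c * z * c⁻¹) * g by group, hc]; group⟩⟩
    exact hUall _ hu' S₀
  have hzE : z ∉ E := by
    intro hz
    have hsub : cls z ⊆ cls z ∩ (S₀ : Set G) := by
      rintro w ⟨g, rfl⟩
      exact ⟨⟨g, rfl⟩, hz g⟩
    have h1 := Set.ncard_le_ncard hsub (Set.toFinite _)
    rw [h.cls_inter_sylow ha hn hco hm hS₀, h.cls_card ha hn hco hm] at h1
    have h2 := h1.trans (h.near_le ha hn hco hm)
    have h3 : 2 ^ a * 2 ≤ 2 ^ a * (2 ^ a + 1) := Nat.mul_le_mul_left _ (by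
      have := Nat.one_le_two_pow (n := a); omega)
    have := Nat.two_pow_pos a
    omega
  have hUcard : U.ncard + 1 = 2 ^ (2 * a) := by
    have h1 : {t : G | orderOf t = 2}.ncard = U.ncard + (cls z).ncard := by
      rw [← Set.ncard_union_eq]
      · congr 1
        ext t
        simp only [hU, Set.mem_union, Set.mem_setOf_eq]
        constructor
        · intro ht
          by_cases hc : t ∈ cls z
          · exact Or.inr hc
          · exact Or.inl ⟨ht, hc⟩
        · rintro (⟨ht, -⟩ | hc)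
          · exact ht
          · exact h.cls_subset hc
      · rw [Set.disjoint_left]
        rintro t ⟨-, h1⟩ h2
        exact h1 h2
    rw [h.card_invol, hm, h.cls_card ha hn hco hm] at h1
    obtain ⟨r, hr⟩ : ∃ r, 2 ^ a = r + 1 := ⟨2 ^ a - 1, by have := Nat.one_le_two_pow (n := a); omega⟩
    rw [two_mul a, pow_add, hr]
    rw [hr, show (Cout M z).ncard = 2 * r by omega] at h1
    ring_nf at h1 ⊢
    omega
  have hsub : insert 1 U ⊆ (E : Set G) := Set.insert_subset (one_mem E) hUE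
  have hins : (insert 1 U).ncard = 2 ^ (2 * a) := by
    rw [Set.ncard_insert_of_notMem (fun hc => ne_one hc.1 rfl) (Set.toFinite _), hUcard]
  have hge : 2 ^ (2 * a) ≤ Nat.card E := hins ▸ Set.ncard_le_ncard hsub (Set.toFinite _)
  have hEcard : Nat.card E = 2 ^ (2 * a) := by
    have hd : Nat.card E ∣ 2 ^ (2 * a + 1) :=
      (Subgroup.card_dvd_of_le (Subgroup.normalCore_le _)).trans (h.sylow_card ha hn hco hm S₀).dvd
    obtain ⟨i, hi, he⟩ := (Nat.dvd_prime_pow Nat.prime_two).mp hd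
    have hi1 : 2 * a ≤ i := (Nat.pow_le_pow_iff_right (by norm_num)).mp (he ▸ hge)
    rcases Nat.lt_or_ge i (2 * a + 1) with hlt | hge'
    · rw [he, show i = 2 * a by omega]
    · exfalso
      have : E = (S₀ : Subgroup G) := Subgroup.eq_of_le_of_card_ge (Subgroup.normalCore_le _)
        (by rw [he, h.sylow_card ha hn hco hm S₀]; exact Nat.pow_le_pow_right two_pos hge')
      exact hzE (this.symm ▸ hS₀)
  have hEeq : (E : Set G) = insert 1 U :=
    (Set.eq_of_subset_of_ncard_le hsub (by rw [hins, ← hEcard]; exact le_rfl) (Set.toFinite _)).symm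
  have hEinv : ∀ x ∈ E, x ≠ 1 → x ∈ U := by
    intro x hx hx1
    have : x ∈ insert 1 U := hEeq ▸ hx
    exact this.resolve_left hx1
  have hEsq : ∀ x ∈ E, x * x = 1 := fun x hx => by
    by_cases hx1 : x = 1
    · rw [hx1, mul_one]
    · exact mul_self (hEinv x hx hx1).1
  have hEel : Cfsg.IsElementaryAbelian 2 E := ⟨⟨⟨fun x y => Subtype.ext (by
      calc (x : G) * y = ((x : G) * y)⁻¹ := eq_inv_iff_mul_eq_one.mpr (hEsq _ (mul_mem x.2 y.2))
        _ = y * x := by
          rw [mul_inv_rev, inv_eq_of_mul_eq_one_right (hEsq _ y.2),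
            inv_eq_of_mul_eq_one_right (hEsq _ x.2)])⟩⟩, fun x hx => by rw [pow_two, hEsq x hx]⟩
  have hinf : E ⊓ NN M = ⊥ := by
    rw [Subgroup.eq_bot_iff_forall]
    rintro x ⟨hxE, hxN⟩
    by_contra hx1
    obtain ⟨ho, hnc⟩ := hEinv x hxE hx1
    obtain ⟨y, -, e⟩ := h.exists_conj_z ho hxN
    exact hnc ⟨y, e⟩
  have hsup : E ⊔ NN M = ⊤ := by
    refine Subgroup.eq_top_of_le_card _ ?_
    let f : E × NN M → ↥(E ⊔ NN M) := fun p => ⟨(p.1 : G) * p.2, Subgroup.mul_mem_sup p.1.2 p.2.2⟩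
    have hf : Function.Injective f := by
      rintro ⟨x, n⟩ ⟨x', n'⟩ e
      have e' : (x : G) * n = x' * n' := congrArg Subtype.val e
      have h1 : (x' : G)⁻¹ * x = (n' : G) * (n : G)⁻¹ := by
        calc (x' : G)⁻¹ * x = (x' : G)⁻¹ * ((x : G) * n) * (n : G)⁻¹ := by group
          _ = (n' : G) * (n : G)⁻¹ := by rw [e']; group
      have h2 : (x' : G)⁻¹ * x ∈ E ⊓ NN M :=
        Subgroup.mem_inf.mpr ⟨mul_mem (inv_mem x'.2) x.2, h1 ▸ mul_mem n'.2 (inv_mem n.2)⟩
      rw [hinf, Subgroup.mem_bot] at h2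
      have h3 : x' = x := Subtype.ext (inv_mul_eq_one.mp h2)
      subst h3
      rw [Subtype.ext (mul_left_cancel e')]
    have h1 := Nat.card_le_card_of_injective f hf
    rw [Nat.card_prod, hEcard, h.card_NN, h.card_HH, hm] at h1
    rw [h.card_G' ha hn hco hm, pow_succ]
    refine le_trans (le_of_eq ?_) h1
    ring
  -- the normaliser is dihedral
  have hMab : IsMulCommutative M := ⟨⟨fun x y => Subtype.ext (h.comm x.2 y.2)⟩⟩
  have hcyc : IsCyclic M := by
    by_contra hnc
    have hgen := CfsgLib.coprime_generated_by_centralizers (A := M) (K := E) hnc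
      (Subgroup.normalizer_eq_top_iff.mpr hEn ▸ le_top)
      (by rw [hEcard]; exact Nat.Coprime.pow_right _ (Nat.coprime_two_right.mpr h.odd_M))
    have hbot : (⨆ x ∈ {x : G | x ∈ M ∧ x ≠ 1}, E ⊓ centralizer {x}) ≤ ⊥ := iSup₂_le fun x hx => by
      intro e he
      rw [Subgroup.mem_bot]
      by_contra he1
      exact h.not_commute (hEinv e he.1 he1).1 hx.1 hx.2 (mem_centralizer_singleton_iff.mp he.2)
    rw [hgen, le_bot_iff] at hbot
    have h2 : Nat.card E = 1 := by rw [hbot, Subgroup.card_bot]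
    rw [hEcard] at h2
    have h3 := Nat.pow_le_pow_right two_pos (show 1 ≤ 2 * a by omega)
    omega
  obtain ⟨⟨g, hg⟩, hgen⟩ := hcyc.exists_generator
  have hgord : orderOf g = 2 ^ a + 1 := by
    rw [← hm, ← orderOf_eq_card_of_forall_mem_zpowers hgen, Subgroup.orderOf_mk]
  have hzg : orderOf (z * g) = 2 := two_of (by
    calc z * g * (z * g) = (z * g * z) * g := by group
      _ = 1 := by rw [h.z_conj hg, inv_mul_cancel]) (fun e => h.no_invol (x := z)
        (by rw [show z = g⁻¹ from eq_inv_of_mul_eq_one_left e]; exact inv_mem hg) h.hz)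
  have hne : z ≠ z * g := fun e => by
    rw [left_eq_mul] at e
    rw [e, orderOf_one] at hgord
    have := Nat.two_pow_pos a
    omega
  have hzz : z * (z * g) = g := by rw [← mul_assoc, mul_self h.hz, one_mul]
  have hrange : (CfsgLib.Involutions.toClosure z (z * g) (mul_self h.hz) (mul_self hzg)).range = NN M := by
    rw [CfsgLib.Involutions.toClosure_range]
    refine le_antisymm ?_ ?_
    · rw [Subgroup.closure_le]
      rintro x (rfl | rfl)
      · exact h.hzN
      · exact mul_mem h.hzN (M_le hg)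
    · intro n hn'
      obtain ⟨x, hx, η, hη, rfl⟩ := h.decomp hn'
      have hzc : z ∈ Subgroup.closure ({z, z * g} : Set G) := Subgroup.subset_closure (Or.inl rfl)
      refine mul_mem ?_ ?_
      · obtain ⟨k, hk⟩ := hgen ⟨x, hx⟩
        have hk' : g ^ k = x := by simpa using congrArg Subtype.val hk
        rw [← hk']
        refine zpow_mem ?_ k
        have h1 := mul_mem hzc (Subgroup.subset_closure (Or.inr rfl) : z * g ∈ Subgroup.closure ({z, z * g} : Set G))
        rwa [hzz] at h1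
      · rcases h.hH η hη with rfl | rfl
        · exact one_mem _
        · exact hzc
  have hord : orderOf (z * (z * g)) = 2 ^ a + 1 := by rw [hzz, hgord]
  refine ⟨a, E, ha, hEn, hEel, hEcard, hinf, hsup, ?_⟩
  rw [← hord]
  exact ⟨((MonoidHom.ofInjective (CfsgLib.Involutions.toClosure_injective h.hz hzg hne)).trans
    (MulEquiv.subgroupCongr hrange)).symm⟩

end Split

end Elem

end CfsgLib.TIInvCount
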