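/-
The case of a two-transitive action on the cosets of the normaliser: a Zassenhaus group with abelian
regular normal subgroup of the point stabiliser.
-/
import Cfsg.Agent.Lib.TIInvCount.Points
import Cfsg.Agent.Lib.Perm.ZassenhausAbelian

set_option autoImplicit false
set_option linter.unusedSectionVars false

namespace CfsgLib.TIInvCount

open Subgroup MulAction

variable {G : Type*} [Group G]

/-- The two-transitive case. -/
structure Two (M : Subgroup G) (z : G) : Prop extends Full M z where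
  pair : ∀ c ∈ Cout M z, ∀ c' ∈ Cout M z, c * c' ∈ NN M

variable {M : Subgroup G} {z : G}

theorem smul_infty (g : G) : g • ((1 : G) : G ⧸ NN M) = (g : G ⧸ NN M) := by
  show ((g * 1 : G) : G ⧸ NN M) = _
  rw [mul_one]

theorem fix_infty_iff {g : G} : g • ((1 : G) : G ⧸ NN M) = ((1 : G) : G ⧸ NN M) ↔ g ∈ NN M := by
  rw [smul_infty, QuotientGroup.eq, mul_one, inv_mem_iff]

theorem smul_pt (g a : G) : g • (a : G ⧸ NN M) = ((g * a : G) : G ⧸ NN M) := rfl

namespace Two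

variable [Finite G] (h : Two M z) {c₀ : G} (hc : c₀ ∈ Cout M z)
include h hc

theorem c_ne : (c₀ : G ⧸ NN M) ≠ ((1 : G) : G ⧸ NN M) := by
  rw [ne_eq, QuotientGroup.eq, mul_one, inv_mem_iff]
  exact hc.2

theorem cout_in {c : G} (hc' : c ∈ Cout M z) : c₀ * c ∈ HH M z :=
  mem_HH.mpr ⟨h.pair c₀ hc c hc', by rw [mul_assoc, hc'.1, ← mul_assoc, hc.1, mul_assoc]⟩

theorem fix_pair {g : G} (hg : g ∈ NN M) (e : g • (c₀ : G ⧸ NN M) = c₀) : g ∈ HH M z := by
  rw [smul_pt, QuotientGroup.eq] at e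
  have h1 : c₀ * g⁻¹ * c₀ ∈ NN M := by
    rwa [mul_inv_rev, inv_self (h.cout_invol hc)] at e
  exact inv_mem_iff.mp (h.mem_HH_of_cout hc (inv_mem hg) h1)

theorem HH_fix {g : G} (hg : g ∈ HH M z) : g • (c₀ : G ⧸ NN M) = c₀ := by
  rw [smul_pt, QuotientGroup.eq, mul_inv_rev, inv_self (h.cout_invol hc),
    h.cout_inverts hc (inv_mem hg), inv_inv]
  exact (mem_HH.mp hg).1

theorem M_fix {a : G} (ha : a ∈ M) (e : a • (c₀ : G ⧸ NN M) = c₀) : a = 1 :=
  h.disjoint_M_HH ha (h.fix_pair hc (M_le ha) e)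

theorem exists_a {y : G ⧸ NN M} (hy : y ≠ ((1 : G) : G ⧸ NN M)) :
    ∃ a ∈ M, a • (c₀ : G ⧸ NN M) = y := by
  obtain ⟨g, rfl⟩ := QuotientGroup.mk_surjective y
  have hg : g ∉ NN M := fun e => hy (by rw [QuotientGroup.eq, mul_one, inv_mem_iff]; exact e)
  obtain ⟨a, ha, c, hc', b, hb, e⟩ := h.decomp_out hg
  refine ⟨a, ha, ?_⟩
  rw [smul_pt, QuotientGroup.eq, ← e, show (a * c₀)⁻¹ * (a * c * b) = c₀⁻¹ * c * b by group,
    inv_self (h.cout_invol hc)]
  exact mul_mem (mem_HH.mp (h.cout_in hc hc')).1 (M_le hb)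

theorem exists_std {y w : G ⧸ NN M} (hyw : y ≠ w) :
    ∃ g : G, g • y = ((1 : G) : G ⧸ NN M) ∧ g • w = c₀ := by
  obtain ⟨g, rfl⟩ := QuotientGroup.mk_surjective y
  have h1 : g⁻¹ • (g : G ⧸ NN M) = ((1 : G) : G ⧸ NN M) := by rw [smul_pt, inv_mul_cancel]
  have h2 : g⁻¹ • w ≠ ((1 : G) : G ⧸ NN M) := fun e => hyw (MulAction.injective g⁻¹ (h1.trans e.symm))
  obtain ⟨a, ha, e⟩ := h.exists_a hc h2
  refine ⟨a⁻¹ * g⁻¹, ?_, ?_⟩
  · rw [mul_smul, h1, fix_infty_iff]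
    exact inv_mem (M_le ha)
  · rw [mul_smul, ← e, inv_smul_smul]

theorem two_transitive : IsMultiplyPretransitive G (G ⧸ NN M) 2 := by
  rw [is_two_pretransitive_iff]
  intro a b a' b' hab hab'
  obtain ⟨g, g1, g2⟩ := h.exists_std hc hab
  obtain ⟨g', g1', g2'⟩ := h.exists_std hc hab'
  exact ⟨g'⁻¹ * g, by rw [mul_smul, g1, ← g1', inv_smul_smul],
    by rw [mul_smul, g2, ← g2', inv_smul_smul]⟩

theorem three_std {k : G} (hk : k ∈ HH M z) {y : G ⧸ NN M} (hy : y ≠ ((1 : G) : G ⧸ NN M))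
    (hy' : y ≠ c₀) (e : k • y = y) : k = 1 := by
  obtain ⟨hkN, -⟩ := mem_HH.mp hk
  -- elements of `M` carrying `c₀` to a fixed point commute with `k`
  have hcomm : ∀ a ∈ M, k • a • (c₀ : G ⧸ NN M) = a • (c₀ : G ⧸ NN M) → k * a = a * k := by
    intro a ha ea
    have h1 : (a⁻¹ * (k * a * k⁻¹)) • (c₀ : G ⧸ NN M) = c₀ := by
      have : k⁻¹ • (c₀ : G ⧸ NN M) = c₀ := h.HH_fix hc (inv_mem hk)
      rw [mul_smul, mul_smul, mul_smul, this, ea, inv_smul_smul]
    have h2 := inv_mul_eq_one.mp (h.M_fix hc (mul_mem (inv_mem ha) (conj_mem hkN ha)) h1)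
    calc k * a = (k * a * k⁻¹) * k := by group
      _ = a * k := by rw [← h2]
  obtain ⟨a, ha, hay⟩ := h.exists_a hc hy
  have ha1 : a ≠ 1 := fun e1 => hy' (by rw [← hay, e1, one_smul])
  have hka : k * a = a * k := hcomm a ha (by rw [hay]; exact e)
  set b := a * c₀ * a⁻¹ with hb
  have hc2 := mul_self (h.cout_invol hc)
  have hkb : b * k * b = k⁻¹ := by
    calc b * k * b = a * (c₀ * (a⁻¹ * (k * a)) * c₀) * a⁻¹ := by rw [hb]; group
      _ = a * k⁻¹ * a⁻¹ := by rw [hka, inv_mul_cancel_left, h.cout_inverts hc hk]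
      _ = k⁻¹ := by
        rw [mul_inv_eq_iff_eq_mul, eq_inv_mul_iff_mul_eq, ← mul_assoc, hka, mul_inv_cancel_right]
  set d := b * c₀ with hd
  have hb2 : b * b = 1 := by rw [hb, conj_mul, hc2, mul_one, mul_inv_cancel]
  have hdk : d * k = k * d := by
    have h1 : c₀ * k = k⁻¹ * c₀ := by
      rw [← h.cout_inverts hc hk, mul_assoc (c₀ * k) c₀ c₀, hc2, mul_one]
    have h2 : b * k⁻¹ = k * b := by
      calc b * k⁻¹ = b * (b * k * b) := by rw [hkb]
        _ = (b * b) * (k * b) := by group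
        _ = k * b := by rw [hb2, one_mul]
    rw [hd, mul_assoc, h1, ← mul_assoc, h2, mul_assoc]
  have ha0 : (a⁻¹ : G) • ((1 : G) : G ⧸ NN M) = ((1 : G) : G ⧸ NN M) :=
    fix_infty_iff.mpr (inv_mem (M_le ha))
  have hd0 : d • ((1 : G) : G ⧸ NN M) ≠ ((1 : G) : G ⧸ NN M) := by
    intro e'
    have h1 : b • (c₀ : G ⧸ NN M) = b • y := by
      rw [hd, mul_smul, smul_infty c₀] at e'
      rw [e', ← hay, smul_pt a c₀, smul_pt, hb,
        show a * c₀ * a⁻¹ * (a * c₀) = a * (c₀ * c₀) by group, hc2, mul_one, QuotientGroup.eq, inv_one, one_mul]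
      exact M_le ha
    exact hy' (MulAction.injective b h1).symm
  obtain ⟨a', ha', hw⟩ := h.exists_a hc hd0
  have hka' : k * a' = a' * k := hcomm a' ha' (by
    rw [hw, ← mul_smul, ← hdk, mul_smul, fix_infty_iff.mpr hkN])
  set d' := a'⁻¹ * d with hd'
  have hd'0 : d' • ((1 : G) : G ⧸ NN M) = c₀ := by rw [hd', mul_smul, ← hw, inv_smul_smul]
  have hd'k : d' * k = k * d' := by
    have h3 : a'⁻¹ * k = k * a'⁻¹ := by
      rw [inv_mul_eq_iff_eq_mul, ← mul_assoc, ← hka', mul_inv_cancel_right]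
    rw [hd', mul_assoc, hdk, ← mul_assoc, h3, mul_assoc]
  obtain ⟨u, hu, hu'⟩ : ∃ a ∈ M, a • (c₀ : G ⧸ NN M) = d'⁻¹ • ((1 : G) : G ⧸ NN M) :=
    h.exists_a hc fun e' => h.c_ne hc (by
      rw [← hd'0]
      conv_lhs => rw [← e', smul_inv_smul])
  have hku : k * u = u * k := hcomm u hu (by
    have h3 : k * d'⁻¹ = d'⁻¹ * k := by rw [eq_inv_mul_iff_mul_eq, ← mul_assoc, hd'k, mul_inv_cancel_right]
    rw [hu', ← mul_smul, h3, mul_smul, fix_infty_iff.mpr hkN])
  set s := d' * u with hs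
  have hsk : s * k = k * s := by rw [hs, mul_assoc, ← hku, ← mul_assoc, hd'k, mul_assoc]
  have hs0 : s • (c₀ : G ⧸ NN M) = ((1 : G) : G ⧸ NN M) := by rw [hs, mul_smul, hu', smul_inv_smul]
  have hs1 : s • ((1 : G) : G ⧸ NN M) = c₀ := by
    rw [hs, mul_smul, fix_infty_iff.mpr (M_le hu), hd'0]
  have hn : c₀ * s ∈ HH M z := by
    have hc0 : c₀ • (c₀ : G ⧸ NN M) = ((1 : G) : G ⧸ NN M) := by rw [smul_pt, hc2]
    refine h.fix_pair hc (fix_infty_iff.mp ?_) ?_
    · rw [mul_smul, hs1, hc0]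
    · rw [mul_smul, hs0, smul_infty]
  have hinv : s * k * s⁻¹ = k⁻¹ := by
    have hsc : s = c₀ * (c₀ * s) := by rw [← mul_assoc, hc2, one_mul]
    have hcom : (c₀ * s) * k = k * (c₀ * s) :=
      h.commute_two_point (h.cout_invol hc) hc.2 (mem_HH.mp hn).1
        (by rw [h.cout_inverts hc hn]; exact inv_mem (mem_HH.mp hn).1) hkN
        (by rw [h.cout_inverts hc hk]; exact inv_mem hkN)
    calc s * k * s⁻¹ = c₀ * ((c₀ * s) * k * (c₀ * s)⁻¹) * c₀⁻¹ := by
          conv_lhs => rw [hsc]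
          group
      _ = c₀ * k * c₀ := by rw [hcom, mul_inv_cancel_right, inv_self (h.cout_invol hc)]
      _ = k⁻¹ := h.cout_inverts hc hk
  rw [hsk, mul_inv_cancel_right] at hinv
  by_contra hk1
  exact h.not_commute (two_of (eq_inv_iff_mul_eq_one.mp hinv) hk1) ha ha1 hka

theorem three {g : G} {p q r : G ⧸ NN M} (hpq : p ≠ q) (hqr : q ≠ r) (hpr : p ≠ r) (hp : g • p = p)
    (hq : g • q = q) (hr : g • r = r) : g = 1 := by
  obtain ⟨u, u1, u2⟩ := h.exists_std hc hpq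
  have hfix : ∀ w : G ⧸ NN M, g • w = w → (u * g * u⁻¹) • u • w = u • w := fun w hw => by
    rw [mul_smul, mul_smul, inv_smul_smul, hw]
  have f1 := hfix p hp
  have f2 := hfix q hq
  rw [u1] at f1
  rw [u2] at f2
  have h1 := h.three_std hc (h.fix_pair hc (fix_infty_iff.mp f1) f2)
    (fun e => hpr (MulAction.injective u (u1.trans e.symm)))
    (fun e => hqr (MulAction.injective u (u2.trans e.symm))) (hfix r hr)
  calc g = u⁻¹ * (u * g * u⁻¹) * u := by group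
    _ = 1 := by rw [h1]; group

theorem card_X : Nat.card (G ⧸ NN M) = Nat.card M + 1 := by
  classical
  letI := Fintype.ofFinite (G ⧸ NN M)
  let f : M → {y : G ⧸ NN M // y ≠ ((1 : G) : G ⧸ NN M)} := fun a =>
    ⟨(a : G) • (c₀ : G ⧸ NN M), fun e => h.c_ne hc (MulAction.injective (a : G)
      (e.trans (fix_infty_iff.mpr (M_le a.2)).symm))⟩
  have hf : Function.Bijective f := by
    refine ⟨fun a b e => ?_, fun ⟨y, hy⟩ => ?_⟩
    · have e' : (a : G) • (c₀ : G ⧸ NN M) = (b : G) • (c₀ : G ⧸ NN M) := congrArg Subtype.val e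
      exact (Subtype.ext (inv_mul_eq_one.mp (h.M_fix hc (mul_mem (inv_mem b.2) a.2)
        (by rw [mul_smul, e', inv_smul_smul])))).symm
    · obtain ⟨a, ha, e⟩ := h.exists_a hc hy
      exact ⟨⟨a, ha⟩, Subtype.ext e⟩
  rw [Nat.card_congr (Equiv.ofBijective f hf), Nat.card_eq_fintype_card, Nat.card_eq_fintype_card,
    Fintype.card_subtype_compl, Fintype.card_subtype_eq]
  have := Fintype.card_pos_iff.mpr ⟨((1 : G) : G ⧸ NN M)⟩
  omega

theorem pair_conj {y : G ⧸ NN M} (hy : y ≠ ((1 : G) : G ⧸ NN M)) :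
    ∃ a ∈ M, stabilizer G ((1 : G) : G ⧸ NN M) ⊓ stabilizer G y =
      (HH M z).map (MulAut.conj a).toMonoidHom := by
  obtain ⟨a, ha, e⟩ := h.exists_a hc hy
  refine ⟨a, ha, ?_⟩
  ext g
  simp only [Subgroup.mem_inf, mem_stabilizer_iff, Subgroup.mem_map]
  constructor
  · rintro ⟨g1, g2⟩
    refine ⟨a⁻¹ * g * a, h.fix_pair hc
      (mul_mem (mul_mem (inv_mem (M_le ha)) (fix_infty_iff.mp g1)) (M_le ha)) ?_,
      by simp [MulAut.conj_apply, mul_assoc]⟩
    rw [mul_smul, mul_smul, e, g2, ← e, inv_smul_smul]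
  · rintro ⟨η, hη, rfl⟩
    refine ⟨fix_infty_iff.mpr ?_, ?_⟩
    · exact mul_mem (mul_mem (M_le ha) (mem_HH.mp hη).1) (inv_mem (M_le ha))
    · show (a * η * a⁻¹) • y = y
      rw [← e, mul_smul, mul_smul, inv_smul_smul, h.HH_fix hc hη]

theorem card_pair {y : G ⧸ NN M} (hy : y ≠ ((1 : G) : G ⧸ NN M)) :
    Nat.card ↥(stabilizer G ((1 : G) : G ⧸ NN M) ⊓ stabilizer G y) = Nat.card (HH M z) := by
  obtain ⟨a, -, e⟩ := h.pair_conj hc hy
  rw [e, Subgroup.card_map_of_injective (MulAut.conj a).injective]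

theorem regular_normal {R : Subgroup G} (hR : R.Normal) (htr : IsPretransitive R (G ⧸ NN M))
    (hfree : ∀ a : G ⧸ NN M, stabilizer R a = ⊥) : Nat.card (HH M z) + 1 = Nat.card M := by
  classical
  have huniq : ∀ r ∈ R, ∀ r' ∈ R, ∀ p : G ⧸ NN M, r • p = r' • p → r = r' := by
    intro r hr r' hr' p e
    have h1 : (⟨r'⁻¹ * r, mul_mem (inv_mem hr') hr⟩ : R) ∈ stabilizer R p := by
      show (r'⁻¹ * r) • p = p
      rw [mul_smul, e, inv_smul_smul]
    rw [hfree p, Subgroup.mem_bot] at h1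
    exact (inv_mul_eq_one.mp (congrArg Subtype.val h1)).symm
  obtain ⟨⟨r, hr⟩, hr0'⟩ := htr.exists_smul_eq ((1 : G) : G ⧸ NN M) (c₀ : G ⧸ NN M)
  have hr0 : r • ((1 : G) : G ⧸ NN M) = (c₀ : G ⧸ NN M) := hr0'
  have hcom : ∀ η ∈ HH M z, η * r * η⁻¹ = r := fun η hη => huniq _ (hR.conj_mem r hr η) _ hr
    ((1 : G) : G ⧸ NN M) (by
      rw [mul_smul, mul_smul, fix_infty_iff.mpr (inv_mem (mem_HH.mp hη).1), hr0, h.HH_fix hc hη])
  have hrN : r ∉ NN M := fun e => h.c_ne hc (hr0 ▸ fix_infty_iff.mpr e)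
  have hrC : r ∈ Cout M z := ⟨(mul_inv_eq_iff_eq_mul.mp (hcom z h.z_mem_HH)).symm, hrN⟩
  have hH : ∀ η ∈ HH M z, η = 1 ∨ η = z := by
    intro η hη
    by_cases hη1 : η = 1
    · exact Or.inl hη1
    refine Or.inr (h.unique_invol (two_of ?_ hη1) hη)
    have h1 := h.cout_inverts hrC hη
    rw [mul_assoc, mul_inv_eq_iff_eq_mul.mp (hcom η hη), ← mul_assoc, mul_self (h.cout_invol hrC),
      one_mul] at h1
    exact eq_inv_iff_mul_eq_one.mp h1
  have hh : Nat.card (HH M z) = 2 := by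
    rw [show Nat.card (HH M z) = (HH M z : Set G).ncard from rfl,
      show ((HH M z : Subgroup G) : Set G) = {1, z} from Set.ext fun η => ⟨hH η, by
        rintro (rfl | rfl)
        · exact one_mem _
        · exact h.z_mem_HH⟩]
    exact Set.ncard_pair (Ne.symm (ne_one h.hz))
  -- all nontrivial elements are involutions
  have hRinv : ∀ x ∈ R, x * x = 1 := by
    intro x hx
    by_cases hx0 : x • ((1 : G) : G ⧸ NN M) = ((1 : G) : G ⧸ NN M)
    · rw [huniq x hx 1 (one_mem _) _ (by rw [hx0, one_smul]), mul_one]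
    obtain ⟨a, ha, e⟩ := h.exists_a hc hx0
    have : a * r * a⁻¹ = x := huniq _ (hR.conj_mem r hr a) x hx ((1 : G) : G ⧸ NN M) (by
      rw [mul_smul, mul_smul, fix_infty_iff.mpr (inv_mem (M_le ha)), hr0, e])
    rw [← this, conj_mul, mul_self (h.cout_invol hrC), mul_one, mul_inv_cancel]
  have hcm : ∀ x ∈ R, ∀ y ∈ R, x * y = y * x := by
    intro x hx y hy
    calc x * y = (x * y)⁻¹ := eq_inv_iff_mul_eq_one.mpr (hRinv _ (mul_mem hx hy))
      _ = y * x := by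
        rw [mul_inv_rev, inv_eq_of_mul_eq_one_right (hRinv y hy), inv_eq_of_mul_eq_one_right (hRinv x hx)]
  have hz2 := mul_self h.hz
  let f : R →* R :=
    { toFun := fun x => ⟨(x : G) * (z * x * z⁻¹), mul_mem x.2 (hR.conj_mem x x.2 z)⟩
      map_one' := Subtype.ext (by simp)
      map_mul' := fun x y => Subtype.ext (by
        show (x : G) * y * (z * (x * y) * z⁻¹) = x * (z * x * z⁻¹) * (y * (z * y * z⁻¹))
        rw [show z * ((x : G) * y) * z⁻¹ = (z * x * z⁻¹) * (z * y * z⁻¹) by group]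
        calc (x : G) * y * (z * x * z⁻¹ * (z * y * z⁻¹)) = x * (y * (z * x * z⁻¹)) * (z * y * z⁻¹) := by group
          _ = x * ((z * x * z⁻¹) * y) * (z * y * z⁻¹) := by rw [hcm _ y.2 _ (hR.conj_mem x x.2 z)]
          _ = _ := by group) }
  have hCR : ∀ x ∈ R, x * z = z * x → x = 1 ∨ x = r := by
    intro x hx hxz
    by_cases hxN : x ∈ NN M
    · exact Or.inl (huniq x hx 1 (one_mem _) _ (by rw [fix_infty_iff.mpr hxN, one_smul]))
    · refine Or.inr (huniq x hx r hr ((1 : G) : G ⧸ NN M) ?_)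
      rw [hr0, smul_infty, QuotientGroup.eq, inv_self (h.cout_invol ⟨hxz, hxN⟩)]
      exact h.pair x ⟨hxz, hxN⟩ c₀ hc
  have hle : ∀ S : Subgroup R, (∀ x ∈ S, (x : G) * z = z * x) → Nat.card S ≤ 2 := by
    intro S hS
    rw [show Nat.card S = (S : Set R).ncard from rfl]
    refine (Set.ncard_le_ncard (t := {1, ⟨r, hr⟩}) (fun x hx => ?_) (Set.toFinite _)).trans
      ((Set.ncard_insert_le _ _).trans (by rw [Set.ncard_singleton]))
    rcases hCR x x.2 (hS x hx) with e | e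
    · exact Or.inl (Subtype.ext e)
    · exact Or.inr (Subtype.ext e)
  have hker : Nat.card f.ker ≤ 2 := hle _ fun x hx => by
    have e : (x : G) * (z * x * z⁻¹) = 1 := congrArg Subtype.val hx
    have e' := eq_inv_of_mul_eq_one_right e
    rw [inv_eq_of_mul_eq_one_right (hRinv x x.2), mul_inv_eq_iff_eq_mul] at e'
    exact e'.symm
  have hran : Nat.card f.range ≤ 2 := hle _ fun x hx => by
    obtain ⟨w, rfl⟩ := hx
    show (w : G) * (z * w * z⁻¹) * z = z * ((w : G) * (z * w * z⁻¹))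
    rw [inv_self h.hz]
    calc (w : G) * (z * w * z) * z = (z * w * z) * w * z := by
          rw [hcm _ w.2 _ (by have := hR.conj_mem w w.2 z; rwa [inv_self h.hz] at this)]
      _ = z * ((w : G) * (z * w * z)) := by group
  have hRcard : Nat.card R ≤ 4 := by
    rw [← f.ker.card_mul_index, Subgroup.index_ker]
    exact Nat.mul_le_mul hker hran
  have hX : Nat.card R = Nat.card (G ⧸ NN M) :=
    Nat.card_congr (Equiv.ofBijective (fun x : R => (x : G) • ((1 : G) : G ⧸ NN M))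
      ⟨fun x y e => Subtype.ext (huniq x x.2 y y.2 _ e), fun y => htr.exists_smul_eq ((1 : G) : G ⧸ NN M) y⟩)
  rw [h.card_X hc] at hX
  have h3 := h.two_lt
  obtain ⟨j, hj⟩ := h.odd_M
  omega

/-- The two possible orders of the complement. -/
theorem dichotomy : Nat.card (HH M z) + 1 = Nat.card M ∨
    (2 * Nat.card (HH M z) + 1 = Nat.card M ∧ ∃ (p f : ℕ) (K : Type) (_ : Field K) (_ : Fintype K),
      p.Prime ∧ p ≠ 2 ∧ Fintype.card K = p ^ f ∧ Nat.card M = p ^ f ∧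
        Nonempty (G ≃* Matrix.ProjectiveSpecialLinearGroup (Fin 2) K)) := by
  classical
  letI := Fintype.ofFinite (G ⧸ NN M)
  have hX := h.card_X hc
  rw [Nat.card_eq_fintype_card] at hX
  by_cases hreg : ∃ R : Subgroup G, R.Normal ∧ IsPretransitive R (G ⧸ NN M) ∧
      ∀ a : G ⧸ NN M, stabilizer R a = ⊥
  · obtain ⟨R, hR, htr, hfree⟩ := hreg
    exact Or.inl (h.regular_normal hc hR htr hfree)
  push Not at hreg
  have hm3 := h.two_lt
  have hZ : Cfsg.IsZassenhausGroup G (G ⧸ NN M) := by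
    refine ⟨⟨fun {g g'} e => ?_⟩, h.two_transitive hc,
      fun g a b c hab hbc hac => h.three hc hab hbc hac,
      ⟨z, ne_one h.hz, ((1 : G) : G ⧸ NN M), c₀, (h.c_ne hc).symm, fix_infty_iff.mpr h.hzN,
        h.HH_fix hc h.z_mem_HH⟩, fun R hR htr => hreg R hR htr⟩
    obtain ⟨w⟩ : Nonempty (Fin 3 ↪ G ⧸ NN M) :=
      Function.Embedding.nonempty_of_card_le (by simp only [Fintype.card_fin]; omega)
    have hfix : ∀ p : G ⧸ NN M, (g'⁻¹ * g) • p = p := fun p => by rw [mul_smul, e, inv_smul_smul]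
    exact (inv_mul_eq_one.mp (h.three hc (w.injective.ne (show (0 : Fin 3) ≠ 1 by decide))
      (w.injective.ne (show (1 : Fin 3) ≠ 2 by decide)) (w.injective.ne (show (0 : Fin 3) ≠ 2 by decide))
      (hfix _) (hfix _) (hfix _))).symm
  have hMab : IsMulCommutative M := ⟨⟨fun a b => Subtype.ext (h.comm a.2 b.2)⟩⟩
  have hMle : M ≤ stabilizer G ((1 : G) : G ⧸ NN M) := fun a ha => fix_infty_iff.mpr (M_le ha)
  have hMn : (M.subgroupOf (stabilizer G ((1 : G) : G ⧸ NN M))).Normal :=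
    ⟨fun a ha g => conj_mem (M := M) (n := (g : G)) (x := (a : G)) ((fix_infty_iff (g := (g : G))).mp g.2) ha⟩
  have hreg' : ∀ y w : G ⧸ NN M, y ≠ ((1 : G) : G ⧸ NN M) → w ≠ ((1 : G) : G ⧸ NN M) →
      ∃! u : M, (u : G) • y = w := by
    intro y w hy hw
    obtain ⟨a, ha, rfl⟩ := h.exists_a hc hy
    obtain ⟨b, hb, rfl⟩ := h.exists_a hc hw
    refine ⟨⟨b * a⁻¹, mul_mem hb (inv_mem ha)⟩, ?_, fun u hu => ?_⟩
    · show (b * a⁻¹) • a • _ = b • _
      rw [mul_smul, inv_smul_smul]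
    · have h1 := h.M_fix hc (mul_mem (inv_mem hb) (mul_mem u.2 ha))
        (by rw [mul_smul, mul_smul, hu, inv_smul_smul])
      refine Subtype.ext ?_
      show (u : G) = b * a⁻¹
      rw [inv_mul_eq_one.mp h1, mul_inv_cancel_right]
  rcases CfsgLib.ZassenhausAbelian.cases hZ _ M hMle hMn hMab hreg' with
    ⟨y, hy, hd, -⟩ | ⟨y, hy, hd, p, f, K, iK, iK', hp, hp2, hK, hcard, hiso⟩
  · refine Or.inl ?_
    rw [h.card_pair hc hy.symm] at hd
    omega
  · rw [h.card_pair hc hy.symm] at hd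
    exact Or.inr ⟨by omega, p, f, K, iK, iK', hp, hp2, hK, by omega, hiso⟩

end Two

end CfsgLib.TIInvCount
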