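/-
The two-transitive case: projective general or special linear groups.
-/
import Cfsg.Agent.Lib.TIInvCount.Zass
import Cfsg.Agent.Lib.Perm.SharpPGL

set_option autoImplicit false
set_option linter.unusedSectionVars false

namespace CfsgLib.TIInvCount

open Subgroup MulAction

variable {G : Type*} [Group G] {M : Subgroup G} {z : G}

namespace Two

variable [Finite G] (h : Two M z) {c₀ : G} (hc : c₀ ∈ Cout M z)
include h hc

theorem HH_free {k a : G} (hk : k ∈ HH M z) (ha : a ∈ M) (ha1 : a ≠ 1) (e : k * a = a * k) : k = 1 :=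
  h.three_std hc hk (y := a • (c₀ : G ⧸ NN M))
    (fun e' => h.c_ne hc (MulAction.injective a (e'.trans (fix_infty_iff.mpr (M_le ha)).symm)))
    (fun e' => ha1 (h.M_fix hc ha e'))
    (by rw [← mul_smul, e, mul_smul, h.HH_fix hc hk])

theorem elementary_M (hle : Nat.card M ≤ 2 * Nat.card (HH M z) + 1) {p : ℕ} (hp : p.Prime)
    (hpm : p ∣ Nat.card M) : Cfsg.IsElementaryAbelian p M := by
  classical
  haveI := Fact.mk hp
  have hMab : IsMulCommutative M := ⟨⟨fun a b => Subtype.ext (h.comm a.2 b.2)⟩⟩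
  refine ⟨hMab, ?_⟩
  let P : Subgroup G :=
    { carrier := {x | x ∈ M ∧ x ^ p = 1}
      one_mem' := ⟨one_mem M, one_pow p⟩
      mul_mem' := fun {a b} ha hb => ⟨mul_mem ha.1 hb.1, by
        rw [(Commute.mul_pow (h.comm ha.1 hb.1)), ha.2, hb.2, one_mul]⟩
      inv_mem' := fun {a} ha => ⟨inv_mem ha.1, by rw [inv_pow, ha.2, inv_one]⟩ }
  obtain ⟨⟨a, ha⟩, ha'⟩ := exists_prime_orderOf_dvd_card' (G := M) p hpm
  have hap : a ^ p = 1 := by
    rw [← ha', ← Subgroup.orderOf_coe]; exact pow_orderOf_eq_one a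
  have ha1 : a ≠ 1 := fun e => hp.ne_one (by
    rw [← ha', ← Subgroup.orderOf_coe]; simp [e])
  let f : HH M z → {x : P // (x : G) ≠ 1} := fun η =>
    ⟨⟨(η : G) * a * (η : G)⁻¹, conj_mem (mem_HH.mp η.2).1 ha, by rw [conj_pow, hap, mul_one, mul_inv_cancel]⟩,
      fun e => ha1 (by simpa [mul_assoc] using congrArg (fun u => (η : G)⁻¹ * u * η) e)⟩
  have hf : Function.Injective f := by
    intro η θ e
    have e' : (η : G) * a * (η : G)⁻¹ = θ * a * (θ : G)⁻¹ := congrArg (fun u => ((u.1 : P) : G)) e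
    have h1 := h.HH_free hc (mul_mem (inv_mem θ.2) η.2) ha ha1 (by
      calc (θ : G)⁻¹ * η * a = (θ : G)⁻¹ * ((η : G) * a * (η : G)⁻¹) * η := by group
        _ = a * ((θ : G)⁻¹ * η) := by rw [e']; group)
    exact (Subtype.ext (inv_mul_eq_one.mp h1)).symm
  have hlt : Nat.card (HH M z) < Nat.card P := by
    refine (Nat.card_le_card_of_injective f hf).trans_lt ?_
    letI := Fintype.ofFinite P
    rw [Nat.card_eq_fintype_card, Nat.card_eq_fintype_card]
    exact Fintype.card_subtype_lt (x := (1 : P)) (by simp)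
  have hPM : P ≤ M := fun x hx => hx.1
  obtain ⟨j, hj⟩ := Subgroup.card_dvd_of_le hPM
  have hjodd : Odd j := (Nat.odd_mul.mp (hj ▸ h.odd_M)).2
  have hj1 : j = 1 := by
    have hj0 := hjodd.pos
    by_contra hne
    have : Nat.card P * 2 ≤ Nat.card P * j := Nat.mul_le_mul_left _ (by omega)
    omega
  intro x hx
  have : P = M := Subgroup.eq_of_le_of_card_ge hPM (by rw [hj, hj1, mul_one])
  exact (this.symm ▸ hx : x ∈ P).2

theorem pgl (hh : Nat.card (HH M z) + 1 = Nat.card M) :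
    ∃ (F : Type) (_ : Field F) (_ : Fintype F), Fintype.card F = Nat.card M ∧
      Nonempty (G ≃* Matrix.ProjGenLinGroup (Fin 2) F) := by
  classical
  letI := Fintype.ofFinite (G ⧸ NN M)
  have hX := h.card_X hc
  rw [Nat.card_eq_fintype_card] at hX
  have hm3 := h.two_lt
  let ψ := MulAction.toPermHom G (G ⧸ NN M)
  have hthree : ∀ (g : G) (w : Fin 3 ↪ G ⧸ NN M), (∀ i, g • w i = w i) → g = 1 := fun g w hw =>
    h.three hc (w.injective.ne (show (0 : Fin 3) ≠ 1 by decide))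
      (w.injective.ne (show (1 : Fin 3) ≠ 2 by decide)) (w.injective.ne (show (0 : Fin 3) ≠ 2 by decide))
      (hw _) (hw _) (hw _)
  obtain ⟨w₀⟩ : Nonempty (Fin 3 ↪ G ⧸ NN M) :=
    Function.Embedding.nonempty_of_card_le (by simp only [Fintype.card_fin]; omega)
  have hinj : Function.Injective ψ := (injective_iff_map_eq_one ψ).mpr fun g hg =>
    hthree g w₀ fun i => DFunLike.congr_fun hg (w₀ i)
  let F' : G → (Fin 3 ↪ G ⧸ NN M) := fun g => w₀.trans (MulAction.toPerm g).toEmbedding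
  have hF' : Function.Bijective F' := by
    refine Function.Injective.bijective_of_nat_card_le (fun g g' e => ?_) ?_
    · exact (inv_mul_eq_one.mp (hthree (g'⁻¹ * g) w₀ fun i => by
        rw [mul_smul, show g • w₀ i = g' • w₀ i from DFunLike.congr_fun e i, inv_smul_smul])).symm
    · have hcout : (Cout M z).ncard = Nat.card (HH M z) := by
        rw [show Cout M z = (fun η => c₀ * η) '' (HH M z : Set G) from Set.ext fun c => ⟨fun hc' =>
          ⟨c₀ * c, h.cout_in hc hc', by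
            simp only [← mul_assoc, mul_self (h.cout_invol hc), one_mul]⟩, by
          rintro ⟨η, hη, rfl⟩
          exact h.cout_mul_HH hc hη⟩, Set.ncard_image_of_injective _ (mul_right_injective c₀)]
        rfl
      rw [Nat.card_eq_fintype_card (α := Fin 3 ↪ G ⧸ NN M), Fintype.card_embedding_eq, Fintype.card_fin,
        h.card_group, hcout, hX, ← hh]
      simp only [Nat.descFactorial_succ, Nat.descFactorial_zero, Nat.add_one_sub_one]
      have : Nat.card (HH M z) + 1 + 1 - 2 = Nat.card (HH M z) := by omega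
      rw [this]
      apply le_of_eq
      simp only [Nat.sub_zero, Nat.add_sub_cancel]
      ring
  have h3 : IsMultiplyPretransitive ψ.range (G ⧸ NN M) 3 := by
    refine ⟨fun x y => ?_⟩
    obtain ⟨g, hg⟩ := hF'.2 x
    obtain ⟨g', hg'⟩ := hF'.2 y
    refine ⟨⟨ψ (g' * g⁻¹), g' * g⁻¹, rfl⟩, Function.Embedding.ext fun i => ?_⟩
    show (g' * g⁻¹) • x i = y i
    rw [← hg, ← hg']
    show (g' * g⁻¹) • g • w₀ i = g' • w₀ i
    rw [mul_smul, inv_smul_smul]
  have hsharp : ∀ x : Fin 3 ↪ G ⧸ NN M, stabilizer ψ.range x = ⊥ := by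
    intro x
    rw [Subgroup.eq_bot_iff_forall]
    rintro ⟨_, g, rfl⟩ hg
    refine Subtype.ext ?_
    show ψ g = 1
    rw [hthree g x fun i => DFunLike.congr_fun (mem_stabilizer_iff.mp hg) i, map_one]
  obtain ⟨nf, haff⟩ := CfsgLib.SharpPGL.exists_coords h3 hsharp (by omega) ((1 : G) : G ⧸ NN M)
  letI := nf
  obtain ⟨F, iF, iFt, hF, ⟨e⟩⟩ := CfsgLib.SharpPGL.iso_of_comm h3 hsharp haff (fun u v => by
    by_cases hu : u = 0
    · rw [hu, CfsgLib.SharpPGL.zero_mul', Cfsg.NearField.mul_zero]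
    by_cases hv : v = 0
    · rw [hv, CfsgLib.SharpPGL.zero_mul', Cfsg.NearField.mul_zero]
    obtain ⟨⟨_, g, rfl⟩, g1, g2⟩ := haff u 0 hu
    obtain ⟨⟨_, g', rfl⟩, g1', g2'⟩ := haff v 0 hv
    simp only [add_zero] at g2 g2'
    have gz : ∀ w : {x : G ⧸ NN M // x ≠ ((1 : G) : G ⧸ NN M)}, g • (w : G ⧸ NN M) = ((w * u : _) : G ⧸ NN M) :=
      fun w => g2 w
    have gz' : ∀ w : {x : G ⧸ NN M // x ≠ ((1 : G) : G ⧸ NN M)}, g' • (w : G ⧸ NN M) = ((w * v : _) : G ⧸ NN M) :=
      fun w => g2' w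
    have hne : ((0 : {x : G ⧸ NN M // x ≠ ((1 : G) : G ⧸ NN M)}) : G ⧸ NN M) ≠ ((1 : G) : G ⧸ NN M) :=
      (0 : {x : G ⧸ NN M // x ≠ ((1 : G) : G ⧸ NN M)}).2
    obtain ⟨a, -, hab⟩ := h.pair_conj hc hne
    have hm : g ∈ stabilizer G ((1 : G) : G ⧸ NN M) ⊓ stabilizer G
        ((0 : {x : G ⧸ NN M // x ≠ ((1 : G) : G ⧸ NN M)}) : G ⧸ NN M) :=
      ⟨g1, show g • _ = _ by rw [gz, CfsgLib.SharpPGL.zero_mul']⟩
    have hm' : g' ∈ stabilizer G ((1 : G) : G ⧸ NN M) ⊓ stabilizer G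
        ((0 : {x : G ⧸ NN M // x ≠ ((1 : G) : G ⧸ NN M)}) : G ⧸ NN M) :=
      ⟨g1', show g' • _ = _ by rw [gz', CfsgLib.SharpPGL.zero_mul']⟩
    rw [hab] at hm hm'
    obtain ⟨η, hη, rfl⟩ := hm
    obtain ⟨θ, hθ, rfl⟩ := hm'
    have hcomm : η * θ = θ * η := h.commute_two_point (h.cout_invol hc) hc.2 (mem_HH.mp hη).1
      (by rw [h.cout_inverts hc hη]; exact inv_mem (mem_HH.mp hη).1) (mem_HH.mp hθ).1
      (by rw [h.cout_inverts hc hθ]; exact inv_mem (mem_HH.mp hθ).1)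
    refine Subtype.ext ?_
    have := congrArg (fun x : G => (MulAut.conj a).toMonoidHom x •
      ((1 : {x : G ⧸ NN M // x ≠ ((1 : G) : G ⧸ NN M)}) : G ⧸ NN M)) hcomm
    simp only [map_mul, mul_smul] at this
    rw [gz' 1, gz, gz 1, gz', one_mul, one_mul] at this
    exact this.symm)
  exact ⟨F, iF, iFt, by omega, ⟨(MonoidHom.ofInjective hinj).trans e⟩⟩

/-- The conclusion in the two-transitive case. -/
theorem conclusion : ∃ (F : Type) (_ : Field F) (_ : Fintype F) (p : ℕ) (_ : Fact p.Prime) (_ : CharP F p),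
    Fintype.card F = Nat.card M ∧ Cfsg.IsElementaryAbelian p M ∧
      (Nonempty (G ≃* (GL (Fin 2) F ⧸ Subgroup.center (GL (Fin 2) F))) ∨
        (Fintype.card F % 4 = 1 ∧ Nonempty (G ≃* Matrix.ProjectiveSpecialLinearGroup (Fin 2) F))) := by
  rcases h.dichotomy hc with hh | ⟨hh, p, f, K, iK, iK', hp, -, hK, hm, hiso⟩
  · obtain ⟨F, iF, iFt, hF, hiso⟩ := h.pgl hc hh
    obtain ⟨p, hpc⟩ := CharP.exists F
    haveI := hpc
    haveI := Fact.mk (CharP.char_is_prime F p)
    refine ⟨F, iF, iFt, p, inferInstance, hpc, hF, h.elementary_M hc (by omega) Fact.out ?_, Or.inl ?_⟩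
    · obtain ⟨k, -, hk⟩ := FiniteField.card F p
      rw [← hF, hk]
      exact dvd_pow_self p k.ne_zero
    · exact hiso
  · haveI := Fact.mk hp
    obtain ⟨p', hpc⟩ := CharP.exists K
    haveI := hpc
    obtain ⟨k, hp', hk⟩ := FiniteField.card K p'
    have hpp : p' = p := by
      have h1 : p' ∣ p ^ f := by rw [← hK, hk]; exact dvd_pow_self p' k.ne_zero
      exact (Nat.prime_dvd_prime_iff_eq hp' hp).mp (hp'.dvd_of_dvd_pow h1)
    subst hpp
    refine ⟨K, iK, iK', p', inferInstance, hpc, hK.trans hm.symm,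
      h.elementary_M hc (by omega) hp ?_, Or.inr ⟨?_, hiso⟩⟩
    · rw [hm, ← hK, hk]
      exact dvd_pow_self p' k.ne_zero
    · have h2 : 2 ∣ Nat.card (HH M z) := by
        rw [← h.hz]; exact Subgroup.orderOf_dvd_natCard _ h.z_mem_HH
      rw [hK, ← hm, ← hh]
      omega

end Two

end CfsgLib.TIInvCount
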